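import Cfsg.Agent.Lib.Chev.MonomialConj

/-! The action of monomial elements on the torus. -/

set_option autoImplicit false

namespace Cfsg.Agent.Chev

open Cfsg.Lie

namespace Ok

variable {D : ChevalleyDatum} {P : Pk} {F : Type*} [Field F] (h : Ok D P)
include h

/-- The torus is determined by the values of the roots. -/
theorem hHom_eq_of_hchar {c c' : Fin P.rank → Fˣ} (e : ∀ r < P.nroots, hchar P c r = hchar P c' r) :
    h.hHom c = h.hHom c' := by
  apply Units.ext
  rw [h.coe_hHom, h.coe_hHom, dM, dM]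
  congr 1
  funext x
  rcases x with i | s
  · rfl
  · exact e s.val (h.nroots ▸ s.isLt)

/-- A monomial element permutes the values of the roots by its Weyl element. -/
theorem exists_wl_char {y : GL D.Idx F} (hy : y ∈ D.monomialSubgroup F) :
    ∃ l, WordOk P l ∧ (∀ c c', y * h.hHom c * y⁻¹ = h.hHom c' →
      ∀ r < P.nroots, hchar P c' (wl P l r) = hchar P c r) ∧
      ((∀ r < P.nroots, wl P l r = r) → y ∈ D.diagonalSubgroup F) := by
  obtain ⟨l, hl, d, hd, rfl⟩ := h.exists_word_of_mem hy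
  refine ⟨l, hl, fun c c' e r hr => ?_, fun htriv => mul_mem (h.nW_mem_diagonal hl htriv) hd⟩
  obtain ⟨cd, rfl⟩ := h.mem_diagonal_iff.1 hd
  set n := h.nW (F := F) l
  have e1 : n * h.hHom c * n⁻¹ = h.hHom c' := by
    rw [← e, show n * h.hHom cd * h.hHom c * (n * h.hHom cd)⁻¹ =
      n * (h.hHom cd * h.hHom c * (h.hHom cd)⁻¹) * n⁻¹ by group, ← map_mul, mul_comm cd c, map_mul,
      mul_inv_cancel_right]
  obtain ⟨a, hae, hx⟩ := h.nW_xG (F := F) l hl r hr
  have ha : a ≠ 0 := fun e => by simp [e] at hae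
  have hlt : wl P l r < P.nroots := h.wl_lt l hl r hr
  have e4 : h.xG (wl P l r) (hchar P c' (wl P l r) * (a * 1)) = h.xG (wl P l r) (a * (hchar P c r * 1)) := by
    rw [← h.hHom_xG c' hlt, ← (hx _).1, ← (hx _).1, ← h.hHom_xG c hr, ← e1]
    simp only [n]
    group
  have e5 : (hchar P c' (wl P l r) - hchar P c r) * a = 0 := by linear_combination h.xG_inj_param hlt e4
  exact sub_eq_zero.1 ((mul_eq_zero.1 e5).resolve_right ha)

end Ok

end Cfsg.Agent.Chev
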