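import Cfsg.Agent.Lib.AltSection.Torus
import Cfsg.Agent.Lib.Chev.MonomialConj
import Cfsg.Agent.Lib.Chev.TwD4Thm
import Mathlib.FieldTheory.Finite.Extension

/-! Alternating sections of the triality groups. -/

set_option autoImplicit false
set_option maxRecDepth 8000

namespace Cfsg.Agent.AltSection

open Cfsg.Lie Cfsg.Agent.Chev

theorem chars_five_D4 : ((List.range 24).all fun r =>
    !((D4.pk.A 0 r + D4.pk.A 2 r + D4.pk.A 3 r) % 5 == 0 && D4.pk.A 1 r % 5 == 0)) = true := by decide +kernel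

variable {K : Type*} [Field K] [Fintype K] {q : ℕ}

theorem exists_tau (hq : IsPrimePow q) (hK : Fintype.card K = q ^ 3) :
    ∃ (φ : K →+* K) (τ : ↥(TwD4.tori φ) →* ↥(twistedD4 K q)), (∀ t, φ t = t ^ q) ∧ Function.Injective τ ∧
      (∀ c, (τ c : GL chevD4.Idx K) = D4.ok.hHom c.1) ∧
      (∀ g : ↥(twistedD4 K q), (g : GL chevD4.Idx K) ∈ chevD4.diagonalSubgroup K → g ∈ τ.range) ∧
      Nat.card ↥(TwD4.tori φ) = (q - 1) * (q ^ 3 - 1) ∧
      Nat.card ↥(twistedD4 K q) = q ^ 12 * (q ^ 2 - 1) * (q ^ 6 - 1) * (q ^ 8 + q ^ 4 + 1) ∧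
      (twistedD4 K q ≤ chevD4.group K) ∧
      ∃ f : ↥(chevD4.monomialSubgroup K ⊓ twistedD4 K q) →* (CoxeterMatrix.G₂).Group, Function.Surjective f ∧
        f.ker = (chevD4.diagonalSubgroup K ⊓ twistedD4 K q).subgroupOf (chevD4.monomialSubgroup K ⊓ twistedD4 K q) := by
  obtain ⟨φ, G, hφ, hG, hO⟩ := TwD4.setup hq hK
  have hmem : ∀ c : ↥(TwD4.tori φ), D4.ok.hHom c.1 ∈ twistedD4 K q := fun c =>
    TwD4.hHom_fixed_mem φ hφ (TwD4.mem_tori.1 c.2)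
  refine ⟨φ, ((D4.ok.hHom (F := K)).comp (TwD4.tori φ).subtype).codRestrict _ hmem, hφ, ?_, fun c => rfl, ?_,
    TwD4.card_tori hφ hK hq, TwD4.order_eq hφ hK hq G hG hO, hG ▸ G.le_group, TwD4.weyl hφ hK hq G hG hO⟩
  · intro a b e
    have e1 : TwD4.hH (K := K) a.1 = TwD4.hH b.1 := congrArg Subtype.val e
    have h2 := TwD4.ker_form (φ := φ) (a.1 * b.1⁻¹) (by rw [map_mul, map_inv, e1, mul_inv_cancel])
      (TwD4.mem_tori.1 (mul_mem a.2 (inv_mem b.2)))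
    exact Subtype.ext (mul_inv_eq_one.1 h2)
  · intro g hg
    obtain ⟨c, hc, e⟩ := Std.diag_lift (h := D4.ok) ckG_D4a φ (e := 2) (n := 3) (by decide)
      (fun c e => TwD4.kernel_sq e) (TwD4.tau_three φ (TwD4.phi3 φ hφ hK)) hg (TwD4.le_fixed φ hφ hK g.2)
    exact ⟨⟨c, hc⟩, Subtype.ext e⟩

theorem D4_split {q : ℕ} (hq : 1 ≤ q) : q ^ 12 * (q ^ 2 - 1) * (q ^ 6 - 1) * (q ^ 8 + q ^ 4 + 1) =
    (q - 1) * (q ^ 3 - 1) * (q ^ 12 * (q + 1) * (q ^ 3 + 1) * (q ^ 8 + q ^ 4 + 1)) := by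
  obtain ⟨p, rfl⟩ : ∃ p, q = p + 1 := ⟨q - 1, by omega⟩
  have h2 : (p + 1) ^ 2 - 1 = p * (p + 2) := by
    have : (p + 1) ^ 2 = p * (p + 2) + 1 := by ring
    omega
  have h6 : (p + 1) ^ 6 - 1 = ((p + 1) ^ 3 - 1) * ((p + 1) ^ 3 + 1) := by
    rw [show ((p + 1) ^ 3 - 1) * ((p + 1) ^ 3 + 1) = ((p + 1) ^ 3) ^ 2 - 1 ^ 2 by rw [Nat.sq_sub_sq, mul_comm],
      ← pow_mul, one_pow]
  rw [h2, h6, Nat.add_sub_cancel]
  ring

theorem fiveLocal_D4 (hq : IsPrimePow q) (hK : Fintype.card K = q ^ 3) (h5 : q % 5 = 1) :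
    FiveLocal ↥(twistedD4 K q) := by
  classical
  haveI : Fact (Nat.Prime 5) := ⟨by norm_num⟩
  have hq2 := hq.two_le
  obtain ⟨φ, τ, hφ, hτ, hval, hdiag, hcT, hcG, hle, f, -, hker⟩ := exists_tau hq hK
  obtain ⟨ζ, hζ⟩ : ∃ ζ : Kˣ, orderOf ζ = 5 :=
    exists_prime_orderOf_dvd_card' 5 (by
      rw [Nat.card_eq_fintype_card, Fintype.card_units, hK]
      have : q ^ 3 % 5 = 1 := by rw [Nat.pow_mod, h5]
      omega)
  have hζ5 : ζ ^ 5 = 1 := hζ ▸ pow_orderOf_eq_one ζ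
  have hφζ : Units.map φ.toMonoidHom ζ = ζ := Units.ext (by
    show φ (ζ : K) = ζ
    rw [hφ, ← Units.val_pow_eq_pow_val, pow_eq_pow_mod q hζ5, h5, pow_one])
  refine fiveLocal_torus τ hτ _ (by rw [hcT, hcG]; exact D4_split (by omega)) (fun h => ?_) fun y hy => ?_
  · have h' := Nat.dvd_iff_mod_eq_zero.1 h
    simp [Nat.mul_mod, Nat.add_mod, Nat.pow_mod, h5] at h'
  choose d hd hd5 using fun t : {t : ↥(TwD4.tori φ) // t ^ 5 = 1} => hy t.1 t.2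
  let d' : {t : ↥(TwD4.tori φ) // t ^ 5 = 1} → {t : ↥(TwD4.tori φ) // t ^ 5 = 1} := fun t => ⟨d t, hd5 t⟩
  have hdinj : Function.Injective d' := fun a b e => by
    have e' : d a = d b := congrArg Subtype.val e
    exact Subtype.ext (hτ (mul_left_cancel (mul_right_cancel ((hd a).trans (e' ▸ (hd b).symm)))))
  let c0 : ↥(TwD4.tori φ) := ⟨![ζ, 1, ζ, ζ], by
    rw [TwD4.mem_tori, TwD4.tau_apply]
    funext j
    fin_cases j <;> first | exact hφζ | exact map_one _⟩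
  let c1 : ↥(TwD4.tori φ) := ⟨![1, ζ, 1, 1], by
    rw [TwD4.mem_tori, TwD4.tau_apply]
    funext j
    fin_cases j <;> first | exact hφζ | exact map_one _⟩
  have h1 : ∀ r < D4.pk.nroots, ∃ t : {t : ↥(TwD4.tori φ) // t ^ 5 = 1}, hchar D4.pk t.1.1 r ≠ 1 := by
    intro r hr
    have hk := List.all_eq_true.1 chars_five_D4 r (List.mem_range.2 hr)
    by_contra hcon
    push Not at hcon
    have hz : ∀ a : ℤ, (ζ : K) ^ a = 1 → a % 5 = 0 := fun a e => by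
      have e' : (ζ ^ a : Kˣ) = 1 := Units.ext (by rw [Units.val_zpow_eq_zpow_val, e, Units.val_one])
      have hd := orderOf_dvd_iff_zpow_eq_one.2 e'
      rw [hζ] at hd
      exact Int.emod_eq_zero_of_dvd hd
    have hh : ∀ c : Fin 4 → Kˣ, hchar D4.pk c r = (c 0 : K) ^ D4.pk.A 0 r * (c 1 : K) ^ D4.pk.A 1 r *
        (c 2 : K) ^ D4.pk.A 2 r * (c 3 : K) ^ D4.pk.A 3 r := fun c => Fin.prod_univ_four _
    have hpow0 : c0 ^ 5 = 1 := Subtype.ext (funext fun j => by fin_cases j <;> simp [c0, hζ5])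
    have hpow1 : c1 ^ 5 = 1 := Subtype.ext (funext fun j => by fin_cases j <;> simp [c1, hζ5])
    have e0 := (hh c0.1).symm.trans (hcon ⟨c0, hpow0⟩)
    have e1 := (hh c1.1).symm.trans (hcon ⟨c1, hpow1⟩)
    simp [c0] at e0
    simp [c1] at e1
    rw [← zpow_add₀ ζ.ne_zero, ← zpow_add₀ ζ.ne_zero] at e0
    simp [hz _ e0, hz _ e1] at hk
  have hmon : (y : GL chevD4.Idx K) ∈ chevD4.monomialSubgroup K := by
    refine D4.ok.monomial_of_conj ckComm_D4 (fun t : {t : ↥(TwD4.tori φ) // t ^ 5 = 1} => t.1.1) (fun t => (d t).1)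
      h1 (fun r hr => ?_) (hle y.2) fun t => ?_
    · obtain ⟨t, ht⟩ := h1 r hr
      obtain ⟨t', e⟩ := (Finite.injective_iff_surjective.1 hdinj) t
      exact ⟨t', by rw [show d t' = t.1 from congrArg Subtype.val e]; exact ht⟩
    · rw [← hval, ← hval]; exact congrArg Subtype.val (hd t)
  have h6 : (⟨y, hmon, y.2⟩ : ↥(chevD4.monomialSubgroup K ⊓ twistedD4 K q)) ^ 6 ∈ f.ker := by
    rw [MonoidHom.mem_ker, map_pow, coxeter_pow_six]
  rw [hker] at h6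
  obtain ⟨t, ht⟩ := hdiag (y ^ 6) (Subgroup.mem_subgroupOf.1 h6).1
  exact ⟨t, ht.symm⟩

theorem le_seven_D4 (hq : IsPrimePow q) (hK : Fintype.card K = q ^ 3) (h4 : q % 4 = 1) (r : ℕ)
    (H : Subgroup ↥(twistedD4 K q)) (N : Subgroup ↥H) [N.Normal]
    (h : Nonempty (↥H ⧸ N ≃* ↥(alternatingGroup (Fin r)))) : r ≤ 7 := by
  classical
  obtain ⟨φ, τ, hφ, hτ, hval, hdiag, hcT, hcG, hle, f, hf, hker⟩ := exists_tau hq hK
  let M : Subgroup ↥(twistedD4 K q) := (chevD4.monomialSubgroup K ⊓ twistedD4 K q).subgroupOf _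
  let e : ↥M ≃* ↥(chevD4.monomialSubgroup K ⊓ twistedD4 K q) := Subgroup.subgroupOfEquivOfLe inf_le_right
  have hT2 : {t : ↥(TwD4.tori φ) | t ^ 2 = 1}.ncard ≤ 4 := by
    have hc : ({t : Kˣ | t ^ 2 = 1}).ncard ≤ 2 := by
      calc ({t : Kˣ | t ^ 2 = 1}).ncard ≤ ({1, -1} : Set Kˣ).ncard := Set.ncard_le_ncard (fun t ht => by
            have : (t : K) ^ 2 = 1 := by rw [← Units.val_pow_eq_pow_val, show t ^ 2 = 1 from ht, Units.val_one]
            rcases sq_eq_one_iff.1 this with h | h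
            · exact Or.inl (Units.ext h)
            · exact Or.inr (Units.ext (by simpa using h))) (Set.toFinite _)
        _ ≤ 2 := (Set.ncard_insert_le _ _).trans (by rw [Set.ncard_singleton])
    calc {t : ↥(TwD4.tori φ) | t ^ 2 = 1}.ncard
        ≤ (({t : Kˣ | t ^ 2 = 1}) ×ˢ ({t : Kˣ | t ^ 2 = 1})).ncard := by
          refine Set.ncard_le_ncard_of_injOn (fun t => (t.1 0, t.1 1))
            (fun t ht => ⟨congrFun (congrArg Subtype.val ht) 0, congrFun (congrArg Subtype.val ht) 1⟩)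
            (fun a _ b _ e => ?_) (Set.toFinite _)
          simp only [Prod.mk.injEq] at e
          obtain ⟨-, -, a2, a3⟩ := TwD4.tau_fixed φ (TwD4.mem_tori.1 a.2)
          obtain ⟨-, -, b2, b3⟩ := TwD4.tau_fixed φ (TwD4.mem_tori.1 b.2)
          have h2 : a.1 2 = b.1 2 := Units.ext (a2.symm.trans ((congrArg (fun u : Kˣ => φ (u : K)) e.1).trans b2))
          refine Subtype.ext (funext fun j => ?_)
          fin_cases j
          · exact e.1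
          · exact e.2
          · exact h2
          · exact Units.ext (a3.symm.trans ((congrArg (fun u : Kˣ => φ (u : K)) h2).trans b3))
      _ ≤ 4 := by
        rw [Set.ncard_prod]
        exact (Nat.mul_le_mul hc hc).trans (by norm_num)
  obtain ⟨k, hk⟩ : ∃ k, q = 4 * k + 1 := ⟨q / 4, by omega⟩
  refine le_seven_torus τ M _ coxeter_pow_six four_dvd_coxeter (f.comp e.toMonoidHom) (hf.comp e.surjective)
    (fun x => ?_) ?_ hτ hT2
    ((4 * k + 1) ^ 12 * (2 * k + 1) * ((2 * k + 1) * (16 * k ^ 2 + 4 * k + 1)) * ((4 * k + 1) ^ 8 + (4 * k + 1) ^ 4 + 1))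
    (by
      rw [hcT, hcG, D4_split (by omega), hk]
      ring) ?_ r H N h
  · show f (e x) = 1 ↔ _
    rw [← MonoidHom.mem_ker, hker, Subgroup.mem_subgroupOf, Subgroup.mem_inf]
    refine ⟨fun h => hdiag x.1 h.1, fun ⟨c, hc⟩ => ⟨?_, x.1.2⟩⟩
    show ((x.1 : ↥(twistedD4 K q)) : GL chevD4.Idx K) ∈ chevD4.diagonalSubgroup K
    rw [← hc, hval]
    exact D4.ok.mem_diagonal_iff.2 ⟨c.1, rfl⟩
  · rintro _ ⟨c, rfl⟩
    refine Subgroup.mem_subgroupOf.2 ⟨?_, (τ c).2⟩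
    rw [hval, D4.ok.monomial_eq]
    exact Subgroup.mem_sup_left (D4.ok.mem_diagonal_iff.2 ⟨c.1, rfl⟩)
  · refine Odd.mul (Odd.mul (Odd.mul (Odd.pow ⟨2 * k, by ring⟩) ⟨k, rfl⟩)
      (Odd.mul ⟨k, rfl⟩ ⟨8 * k ^ 2 + 2 * k, by ring⟩)) ?_
    have h4' : Odd (4 * k + 1) := ⟨2 * k, by ring⟩
    exact ((h4'.pow.add_odd h4'.pow).add_one)

/-- The triality group over `q` inside that over `q ^ 4`. -/
theorem map_le {L : Type*} [Field L] (f : K →+* L) (hK : Fintype.card K = q ^ 3) :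
    (twistedD4 K q).map (gmap chevD4 f) ≤ twistedD4 L (q ^ 4) := by
  rw [Subgroup.map_le_iff_le_comap]
  refine (Subgroup.closure_le _).2 fun g hg => ?_
  show gmap chevD4 f g ∈ twistedD4 L (q ^ 4)
  have hq3 : ∀ t : K, t ^ q ^ 3 = t := fun t => hK ▸ FiniteField.pow_card t
  have h4 : ∀ t : K, t ^ q ^ 4 = t ^ q := fun t => by rw [pow_succ q 3, pow_mul, hq3]
  refine TwD4.gens (P' := fun g => gmap chevD4 f g ∈ twistedD4 L (q ^ 4)) (fun r hr t ht => ?_) (fun rs hr t => ?_) hg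
  · have hr' : r < D4.pk.nroots := (by decide +kernel : ∀ r ∈ [(14 : ℕ), 9], r < D4.pk.nroots) r hr
    rw [D4.ok.gmap_xG f hr']
    exact TwD4.gen1 hr (by rw [← map_pow, h4, ht])
  · obtain ⟨h1, h2, h3⟩ := (by decide +kernel : ∀ rs ∈ [((18 : ℕ), (13 : ℕ), (12 : ℕ)), (5, 10, 11)],
      rs.1 < D4.pk.nroots ∧ rs.2.1 < D4.pk.nroots ∧ rs.2.2 < D4.pk.nroots) rs hr
    rw [map_mul, map_mul, D4.ok.gmap_xG f h1, D4.ok.gmap_xG f h2, D4.ok.gmap_xG f h3]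
    refine Subgroup.subset_closure ⟨_, Or.inr ⟨f t, rs, hr, rfl⟩, ?_⟩
    have e1 : f (t ^ q) = f t ^ q ^ 4 := by rw [← map_pow, h4]
    have e2 : f (t ^ q ^ 2) = f t ^ (q ^ 4) ^ 2 := by
      rw [← map_pow, show (q ^ 4) ^ 2 = q ^ 4 * q ^ 4 from sq _, pow_mul, h4, ← pow_mul, mul_comm, pow_mul, h4,
        ← pow_mul, ← sq]
    rw [e1, e2]
    exact TwD4.wordMat3 _ _ _ _ _ _

end Cfsg.Agent.AltSection
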