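import Mathlib.GroupTheory.Perm.ViaEmbedding
import Mathlib.GroupTheory.SpecificGroups.Alternating

/-! The alternating group of degree `n` inside that of degree `r`. -/

set_option autoImplicit false

namespace Cfsg.Agent.AltSection

/-- The natural inclusion of alternating groups. -/
theorem exists_embed {n r : ℕ} (h : n ≤ r) :
    ∃ f : ↥(alternatingGroup (Fin n)) →* ↥(alternatingGroup (Fin r)), Function.Injective f := by
  classical
  let emb : Fin n ↪ Fin r := ⟨Fin.castLE h, Fin.castLE_injective _⟩
  let v := Equiv.Perm.viaEmbeddingHom emb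
  have hsign : ∀ x, Equiv.Perm.sign x = 1 → v x ∈ alternatingGroup (Fin r) := fun x hx => by
    rw [Equiv.Perm.mem_alternatingGroup, ← hx, ← Equiv.Perm.viaFintypeEmbedding_sign x emb]
    congr 1
    refine Equiv.ext fun a => ?_
    by_cases ha : a ∈ Set.range emb
    · obtain ⟨c, rfl⟩ := ha
      rw [Equiv.Perm.viaFintypeEmbedding_apply_image]
      exact Equiv.Perm.viaEmbedding_apply x emb c
    · rw [Equiv.Perm.viaFintypeEmbedding_apply_notMem_range (e := x) (f := emb) (b := a) ha]
      exact Equiv.Perm.viaEmbedding_apply_of_notMem x emb a ha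
  refine ⟨(v.comp (alternatingGroup (Fin n)).subtype).codRestrict _ fun x =>
    hsign x.1 (Equiv.Perm.mem_alternatingGroup.1 x.2), fun a b e => ?_⟩
  exact Subtype.ext (Equiv.Perm.viaEmbeddingHom_injective emb (congrArg Subtype.val e))

end Cfsg.Agent.AltSection
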