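import Mathlib.GroupTheory.Sylow
import Mathlib.Data.Nat.Factorization.Basic

/-! The Sylow group of a torus of small cofactor. -/

set_option autoImplicit false

namespace Cfsg.Agent.AltSection

/-- If the cofactor of a torus is prime to `ℓ`, a Sylow group of the torus is one of the whole group. -/
theorem sylow_torus {G : Type*} [Group G] [Finite G] {ℓ : ℕ} [hℓ : Fact ℓ.Prime] {T : Type*} [CommGroup T] [Finite T]
    (τ : T →* G) (hτ : Function.Injective τ) (m : ℕ) (hcard : Nat.card G = Nat.card T * m) (hm : ¬ ℓ ∣ m) :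
    ∃ P : Sylow ℓ G, (∀ a ∈ (P : Subgroup G), ∀ b ∈ (P : Subgroup G), Commute a b) ∧
      ((P : Subgroup G) ≤ τ.range) ∧ ∀ t : T, t ^ ℓ = 1 → τ t ∈ (P : Subgroup G) := by
  classical
  let Q : Sylow ℓ T := Classical.arbitrary _
  have hPc : Nat.card ((Q : Subgroup T).map τ) = ℓ ^ (Nat.card G).factorization ℓ := by
    rw [← Nat.card_congr ((Q : Subgroup T).equivMapOfInjective τ hτ).toEquiv, Q.card_eq_multiplicity, hcard,
      Nat.factorization_mul (Nat.card_pos (α := T)).ne' (fun h => hm (by rw [h]; exact dvd_zero ℓ)), Finsupp.add_apply,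
      Nat.factorization_eq_zero_of_not_dvd hm, add_zero]
  have hQ : ∀ t : T, t ^ ℓ = 1 → t ∈ (Q : Subgroup T) := by
    intro t ht
    obtain ⟨Q', hQ'⟩ := (show IsPGroup ℓ (Subgroup.zpowers t) from fun y => ⟨1, by
      obtain ⟨i, hi⟩ := y.2
      refine Subtype.ext ?_
      rw [pow_one, Subgroup.coe_pow, ← hi, ← zpow_natCast, ← zpow_mul, mul_comm, zpow_mul, zpow_natCast, ht, one_zpow,
        Subgroup.coe_one]⟩).exists_le_sylow
    obtain ⟨y, rfl⟩ := MulAction.exists_smul_eq T Q Q'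
    have := hQ' (Subgroup.mem_zpowers t)
    rw [Sylow.coe_subgroup_smul, Subgroup.mem_pointwise_smul_iff_inv_smul_mem] at this
    simpa using this
  refine ⟨Sylow.ofCard _ hPc, ?_, ?_, fun t ht => ⟨t, hQ t ht, rfl⟩⟩
  · rintro _ ⟨a, -, rfl⟩ _ ⟨b, -, rfl⟩
    exact (Commute.all a b).map τ
  · rintro _ ⟨a, -, rfl⟩
    exact ⟨a, rfl⟩

end Cfsg.Agent.AltSection
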