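import Cfsg.Agent.Lib.AltSection.Local
import Cfsg.Agent.Lib.AltSection.Sylow
import Cfsg.Agent.Lib.AltSection.Char
import Cfsg.Agent.Lib.AltSection.WeylF4
import Cfsg.Agent.S1062

/-! The five-, seven- and eleven-subgroups of the split torus of `F₄(q)`. -/

set_option autoImplicit false
set_option maxRecDepth 8000

namespace Cfsg.Agent.AltSection

open Cfsg.Lie Cfsg.Agent.Chev
open scoped Pointwise

/-- The characters are non-trivial modulo five, seven and eleven and distinct modulo five. -/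
theorem chars_F4 : ([5, 7, 11].all fun ℓ : ℕ => (List.range 48).all fun r =>
      (List.range 4).any fun i => !(F4.pk.A i r % (ℓ : ℤ) == 0)) &&
    ((List.range 48).all fun r => (List.range 48).all fun s => Nat.beq r s ||
      (List.range 4).any fun i => !((F4.pk.A i r - F4.pk.A i s) % 5 == 0)) = true := by decide +kernel

variable {L : Type*} [Field L] [Fintype L]

/-- The torus. -/
noncomputable def tauF4 : (Fin F4.pk.rank → Lˣ) →* ↥(chevF4.group L) :=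
  (F4.ok.hHom (F := L)).codRestrict _ fun c => F4.ok.diagonal_le_group (F4.ok.mem_diagonal_iff.2 ⟨c, rfl⟩)

theorem coe_tauF4 (c : Fin F4.pk.rank → Lˣ) : (tauF4 c : GL chevF4.Idx L) = F4.ok.hHom c := rfl

theorem tauF4_inj : Function.Injective (tauF4 (L := L)) := fun a b e =>
  F4.ok.hHom_injective smith_F4 (by decide +kernel) (congrArg Subtype.val e)

theorem geom_nat (p : ℕ) : ∀ n, 1 ≤ n → (p + 1) ^ n - 1 = p * ∑ i ∈ Finset.range n, (p + 1) ^ i := by
  intro n _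
  have : (∑ i ∈ Finset.range n, (p + 1) ^ i) * p + 1 = (p + 1) ^ n := geom_sum_mul_add p n
  rw [mul_comm]
  omega

/-- The order, with the torus split off. -/
theorem card_F4_split {ℓ : ℕ} (hl : ℓ ∈ [5, 7, 11]) (hq : Fintype.card L % ℓ = 1) :
    ∃ m, Nat.card ↥(chevF4.group L) = Nat.card (Fin F4.pk.rank → Lˣ) * m ∧ ¬ ℓ ∣ m := by
  classical
  obtain ⟨p, hp⟩ : ∃ p, Fintype.card L = p + 1 := ⟨Fintype.card L - 1, by have := Fintype.card_pos (α := L); omega⟩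
  have hcT : Nat.card (Fin F4.pk.rank → Lˣ) = p ^ 4 := by
    rw [Nat.card_fun, Nat.card_eq_fintype_card, Fintype.card_units, Nat.card_fin, hp, Nat.add_sub_cancel,
      show F4.pk.rank = 4 from rfl]
  refine ⟨(p + 1) ^ 24 * (∑ i ∈ Finset.range 2, (p + 1) ^ i) * (∑ i ∈ Finset.range 6, (p + 1) ^ i) *
    (∑ i ∈ Finset.range 8, (p + 1) ^ i) * (∑ i ∈ Finset.range 12, (p + 1) ^ i), ?_, fun h => ?_⟩
  · rw [Cfsg.Agent.S1062.result (F := L) rfl, hcT, hp, geom_nat p 2 (by norm_num), geom_nat p 6 (by norm_num),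
      geom_nat p 8 (by norm_num), geom_nat p 12 (by norm_num)]
    ring
  · have hs : ∀ n, (∑ i ∈ Finset.range n, (p + 1) ^ i) % ℓ = n % ℓ := by
      intro n
      induction n with
      | zero => simp
      | succ n ih =>
        have hℓ : 1 % ℓ = 1 := by simp only [List.mem_cons, List.not_mem_nil, or_false] at hl; rcases hl with rfl | rfl | rfl <;> rfl
        rw [Finset.sum_range_succ, Nat.add_mod, ih, Nat.pow_mod, ← hp, hq, one_pow, hℓ, Nat.mod_add_mod]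
    have h' := Nat.dvd_iff_mod_eq_zero.1 h
    rw [Nat.mul_mod, Nat.mul_mod ((p + 1) ^ 24 * _ * _), Nat.mul_mod ((p + 1) ^ 24 * _), Nat.mul_mod ((p + 1) ^ 24),
      hs, hs, hs, hs, Nat.pow_mod, ← hp, hq, one_pow] at h'
    simp only [List.mem_cons, List.not_mem_nil, or_false] at hl
    rcases hl with rfl | rfl | rfl <;> simp at h'

theorem hchar_single {r : ℕ} (i : Fin F4.pk.rank) (ζ : Lˣ) :
    hchar F4.pk (Pi.mulSingle i ζ) r = ((ζ ^ F4.pk.A i r : Lˣ) : L) := by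
  rw [hchar, Finset.prod_eq_single i (fun j _ hj => by rw [Pi.mulSingle_eq_of_ne hj]; simp) (by simp),
    Pi.mulSingle_eq_same, Units.val_zpow_eq_zpow_val]

theorem moved_F4 {ℓ : ℕ} [Fact ℓ.Prime] (hl : ℓ ∈ [5, 7, 11]) (hq : Fintype.card L % ℓ = 1) :
    ∀ r < F4.pk.nroots, ∃ t : {t : Fin F4.pk.rank → Lˣ // t ^ ℓ = 1}, hchar F4.pk t.1 r ≠ 1 := by
  classical
  intro r hr
  obtain ⟨ζ, hζ⟩ : ∃ ζ : Lˣ, orderOf ζ = ℓ :=
    exists_prime_orderOf_dvd_card' ℓ (by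
      rw [Nat.card_eq_fintype_card, Fintype.card_units]
      exact ⟨Fintype.card L / ℓ, by have := Nat.div_add_mod (Fintype.card L) ℓ; omega⟩)
  have hk := chars_F4
  simp only [Bool.and_eq_true, List.all_eq_true, List.any_eq_true, List.mem_range, Bool.not_eq_true',
    beq_eq_false_iff_ne] at hk
  obtain ⟨i, hi, hA⟩ := hk.1 ℓ hl r hr
  refine ⟨⟨Pi.mulSingle ⟨i, hi⟩ ζ, by rw [← Pi.mulSingle_pow, ← hζ, pow_orderOf_eq_one, Pi.mulSingle_one]⟩,
    fun e => hA ?_⟩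
  rw [hchar_single] at e
  have hd := orderOf_dvd_iff_zpow_eq_one.2 (Units.ext (e.trans Units.val_one.symm) : ζ ^ F4.pk.A i r = 1)
  rw [hζ] at hd
  exact Int.emod_eq_zero_of_dvd hd

/-- An element carrying the elements of order `ℓ` of the torus into themselves is monomial. -/
theorem monomial_F4 {ℓ : ℕ} [Fact ℓ.Prime] (hl : ℓ ∈ [5, 7, 11]) (hq : Fintype.card L % ℓ = 1)
    (y : ↥(chevF4.group L)) (hy : ∀ t, t ^ ℓ = 1 → ∃ t', y * tauF4 t * y⁻¹ = tauF4 t' ∧ t' ^ ℓ = 1) :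
    (y : GL chevF4.Idx L) ∈ chevF4.monomialSubgroup L := by
  classical
  choose d hd hd5 using fun t : {t : Fin F4.pk.rank → Lˣ // t ^ ℓ = 1} => hy t.1 t.2
  let d' : {t : Fin F4.pk.rank → Lˣ // t ^ ℓ = 1} → {t : Fin F4.pk.rank → Lˣ // t ^ ℓ = 1} := fun t => ⟨d t, hd5 t⟩
  have hdinj : Function.Injective d' := fun a b e => by
    have e' : d a = d b := congrArg Subtype.val e
    exact Subtype.ext (tauF4_inj (mul_left_cancel (mul_right_cancel ((hd a).trans (e' ▸ (hd b).symm)))))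
  refine F4.ok.monomial_of_conj ckComm_F4 (fun t : {t : Fin F4.pk.rank → Lˣ // t ^ ℓ = 1} => t.1) (fun t => d t)
    (moved_F4 hl hq) (fun r hr => ?_) y.2 fun t => congrArg Subtype.val (hd t)
  obtain ⟨t, ht⟩ := moved_F4 hl hq r hr
  obtain ⟨t', e⟩ := (Finite.injective_iff_surjective.1 hdinj) t
  exact ⟨t', by rw [show d t' = t.1 from congrArg Subtype.val e]; exact ht⟩

/-- An element centralising the elements of order five of the torus lies in it. -/
theorem centralizer_five (hq : Fintype.card L % 5 = 1) (y : ↥(chevF4.group L))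
    (hy : ∀ t, t ^ 5 = 1 → Commute y (tauF4 t)) : y ∈ (tauF4 (L := L)).range := by
  classical
  haveI : Fact (Nat.Prime 5) := ⟨by norm_num⟩
  have hc : ∀ t, t ^ 5 = 1 → y * tauF4 t * y⁻¹ = tauF4 t := fun t ht => by
    rw [(hy t ht).eq, mul_inv_cancel_right]
  obtain ⟨l, hl, hchr, hdiag⟩ := F4.ok.exists_wl_char (monomial_F4 (ℓ := 5) (by simp) hq y
    fun t ht => ⟨t, hc t ht, ht⟩)
  obtain ⟨ζ, hζ⟩ : ∃ ζ : Lˣ, orderOf ζ = 5 :=
    exists_prime_orderOf_dvd_card' 5 (by rw [Nat.card_eq_fintype_card, Fintype.card_units]; omega)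
  have hk := chars_F4
  simp only [Bool.and_eq_true, List.all_eq_true, List.any_eq_true, List.mem_range, Bool.not_eq_true',
    beq_eq_false_iff_ne, Bool.or_eq_true, decide_eq_true_eq] at hk
  obtain ⟨c, hc'⟩ := F4.ok.mem_diagonal_iff.1 (hdiag fun r hr => by
    by_contra hne
    obtain h | ⟨i, hi, hA⟩ := hk.2 (wl F4.pk l r) (F4.ok.wl_lt l hl r hr) r hr
    · exact hne (Nat.eq_of_beq_eq_true h)
    · apply hA
      have ht : (Pi.mulSingle (⟨i, hi⟩ : Fin F4.pk.rank) ζ) ^ 5 = (1 : Fin F4.pk.rank → Lˣ) := by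
        rw [← Pi.mulSingle_pow, ← hζ, pow_orderOf_eq_one, Pi.mulSingle_one]
      have e := hchr _ _ (congrArg Subtype.val (hc _ ht)) r hr
      rw [hchar_single, hchar_single] at e
      have e' : ζ ^ (F4.pk.A i (wl F4.pk l r) - F4.pk.A i r) = 1 := by
        rw [zpow_sub, mul_inv_eq_one]; exact Units.ext e
      have hd := orderOf_dvd_iff_zpow_eq_one.2 e'
      rw [hζ] at hd
      exact Int.emod_eq_zero_of_dvd hd)
  exact ⟨c, Subtype.ext hc'⟩

/-- The three kinds of monomial elements on the torus. -/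
theorem monomial_powers {y : ↥(chevF4.group L)} (hy : (y : GL chevF4.Idx L) ∈ chevF4.monomialSubgroup L) :
    (∀ t, Commute (y ^ 6) (tauF4 t)) ∨ (∀ t, Commute (y ^ 8) (tauF4 t)) ∨
      (∀ t, y ^ 6 * tauF4 t * (y ^ 6)⁻¹ = (tauF4 t)⁻¹) := by
  classical
  obtain ⟨l, hl, hchr, -⟩ := F4.ok.exists_wl_char hy
  have hlt : ∀ r < 48, wl F4.pk l r < 48 := F4.ok.wl_lt l hl
  have hnorm : ∀ c : Fin F4.pk.rank → Lˣ, ∃ c', (y : GL chevF4.Idx L) * F4.ok.hHom c * (y : GL chevF4.Idx L)⁻¹ = F4.ok.hHom c' := fun c =>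
    (F4.ok.mem_diagonal_iff.1 ((Subgroup.mem_normalizer_iff.1 (F4.ok.monomial_normalizes hy) _).1
      (F4.ok.mem_diagonal_iff.2 ⟨c, rfl⟩))).imp fun _ h => h.symm
  have hpow : ∀ (k : ℕ) (c : Fin F4.pk.rank → Lˣ), ∃ c', (y ^ k * tauF4 c * (y ^ k)⁻¹ = tauF4 c') ∧
      ∀ r < 48, hchar F4.pk c' ((wl F4.pk l)^[k] r) = hchar F4.pk c r ∧ (wl F4.pk l)^[k] r < 48 := by
    intro k
    induction k with
    | zero => intro c; exact ⟨c, by simp, fun r hr => ⟨rfl, hr⟩⟩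
    | succ k ih =>
      intro c
      obtain ⟨c1, e1, h1⟩ := ih c
      obtain ⟨c2, e2⟩ := hnorm c1
      refine ⟨c2, ?_, fun r hr => ?_⟩
      · rw [pow_succ', show y * y ^ k * tauF4 c * (y * y ^ k)⁻¹ = y * (y ^ k * tauF4 c * (y ^ k)⁻¹) * y⁻¹ by group, e1]
        exact Subtype.ext e2
      · rw [Function.iterate_succ_apply']
        exact ⟨(hchr c1 c2 e2 _ (h1 r hr).2).trans (h1 r hr).1, hlt _ (h1 r hr).2⟩
  rcases WeylF4.wl_powers hl hlt with h | h | h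
  · refine Or.inl fun c => ?_
    obtain ⟨c', e, h'⟩ := hpow 6 c
    have : tauF4 c' = tauF4 c := Subtype.ext (F4.ok.hHom_eq_of_hchar fun r hr => by
      have := (h' r hr).1; rwa [h r hr] at this)
    exact mul_inv_eq_iff_eq_mul.1 (e.trans this)
  · refine Or.inr (Or.inl fun c => ?_)
    obtain ⟨c', e, h'⟩ := hpow 8 c
    have : tauF4 c' = tauF4 c := Subtype.ext (F4.ok.hHom_eq_of_hchar fun r hr => by
      have := (h' r hr).1; rwa [h r hr] at this)
    exact mul_inv_eq_iff_eq_mul.1 (e.trans this)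
  · refine Or.inr (Or.inr fun c => ?_)
    obtain ⟨c', e, h'⟩ := hpow 6 c
    rw [e, ← map_inv]
    refine Subtype.ext (F4.ok.hHom_eq_of_hchar fun r hr => ?_)
    have h2 : ∀ r < 48, F4.pk.ng (F4.pk.ng r) = r ∧ F4.pk.ng r < 48 := by decide +kernel
    have h3 := (h' (F4.pk.ng r) (h2 r hr).2).1
    rw [h _ (h2 r hr).2, (h2 r hr).1] at h3
    rw [h3, (F4.ok.isChar_hchar c).neg r hr]
    simp [hchar]

/-- Joint local structure for five and seven. -/
theorem thirty_five_local (h5 : Fintype.card L % 5 = 1) (h7 : Fintype.card L % 7 = 1)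
    {A B : Subgroup ↥(chevF4.group L)} (hA : IsPGroup 7 A) (hB : IsPGroup 5 B)
    (hAB : ∀ a ∈ A, ∀ b ∈ B, Commute a b) {g : ↥(chevF4.group L)}
    (hgA : ∀ a ∈ A, g * a * g⁻¹ ∈ A) (hgB : ∀ b ∈ B, g * b * g⁻¹ ∈ B) :
    (∀ s, s ∈ A ∨ s ∈ B → Commute (g ^ 6) s) ∨ (∀ s, s ∈ A ∨ s ∈ B → Commute (g ^ 8) s) ∨
      (∀ s, s ∈ A ∨ s ∈ B → g ^ 6 * s * (g ^ 6)⁻¹ = s⁻¹) := by
  classical
  haveI : Fact (Nat.Prime 5) := ⟨by norm_num⟩
  haveI : Fact (Nat.Prime 7) := ⟨by norm_num⟩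
  obtain ⟨m5, hc5, hm5⟩ := card_F4_split (ℓ := 5) (by simp) h5
  obtain ⟨m7, hc7, hm7⟩ := card_F4_split (ℓ := 7) (by simp) h7
  obtain ⟨P5, hab5, hP5, hmem5⟩ := sylow_torus (tauF4 (L := L)) tauF4_inj m5 hc5 hm5
  obtain ⟨P7, -, hP7, -⟩ := sylow_torus (tauF4 (L := L)) tauF4_inj m7 hc7 hm7
  -- a common torus
  obtain ⟨Q7, hQ7⟩ := hA.exists_le_sylow
  obtain ⟨x1, hx1⟩ := MulAction.exists_smul_eq ↥(chevF4.group L) P7 Q7
  set CA := Subgroup.centralizer (A : Set ↥(chevF4.group L))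
  have hle1 : ((x1 • P5 : Sylow 5 ↥(chevF4.group L)) : Subgroup ↥(chevF4.group L)) ≤ CA := by
    intro a ha
    rw [Sylow.coe_subgroup_smul, Subgroup.mem_smul_pointwise_iff_exists] at ha
    obtain ⟨p, hp, rfl⟩ := ha
    refine Subgroup.mem_centralizer_iff.2 fun s hs => ?_
    have hs' : s ∈ ((x1 • P7 : Sylow 7 ↥(chevF4.group L)) : Subgroup ↥(chevF4.group L)) := hx1 ▸ hQ7 hs
    rw [Sylow.coe_subgroup_smul, Subgroup.mem_smul_pointwise_iff_exists] at hs'
    obtain ⟨p', hp', rfl⟩ := hs'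
    obtain ⟨t, rfl⟩ := hP5 hp
    obtain ⟨t', rfl⟩ := hP7 hp'
    exact (((Commute.all t' t).map tauF4).map (MulAut.conj x1).toMonoidHom).eq
  have hBC : B ≤ CA := fun b hb => Subgroup.mem_centralizer_iff.2 fun a ha => (hAB a ha b hb).eq
  obtain ⟨QB, hQB⟩ := (hB.comap_subtype (K := CA)).exists_le_sylow
  obtain ⟨c1, hc1⟩ := MulAction.exists_smul_eq ↥CA ((x1 • P5).subtype hle1) QB
  set x := (c1 : ↥(chevF4.group L)) * x1
  have hBx : ∀ b ∈ B, ∃ p ∈ (P5 : Subgroup ↥(chevF4.group L)), x * p * x⁻¹ = b := by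
    intro b hb
    have h1 : (⟨b, hBC hb⟩ : ↥CA) ∈ (QB : Subgroup ↥CA) := hQB (show b ∈ B from hb)
    rw [← hc1, Sylow.coe_subgroup_smul, Subgroup.mem_smul_pointwise_iff_exists] at h1
    obtain ⟨d, hd, e⟩ := h1
    have hd' : (d : ↥(chevF4.group L)) ∈ ((x1 • P5 : Sylow 5 ↥(chevF4.group L)) : Subgroup ↥(chevF4.group L)) := hd
    rw [Sylow.coe_subgroup_smul, Subgroup.mem_smul_pointwise_iff_exists] at hd'
    obtain ⟨p, hp, e'⟩ := hd'
    refine ⟨p, hp, ?_⟩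
    have e2 : (c1 : ↥(chevF4.group L)) * d * (c1 : ↥(chevF4.group L))⁻¹ = b := congrArg Subtype.val e
    have e3 : x1 * p * x1⁻¹ = (d : ↥(chevF4.group L)) := e'
    rw [← e2, ← e3]
    simp [x, mul_assoc]
  have hxA : ∀ a ∈ A, x⁻¹ * a * x ∈ (tauF4 (L := L)).range := by
    intro a ha
    refine centralizer_five h5 _ fun t ht => ?_
    have h1 : x1 * tauF4 t * x1⁻¹ ∈ CA := hle1 (by
      rw [Sylow.coe_subgroup_smul]
      exact Subgroup.smul_mem_pointwise_smul _ (MulAut.conj x1) _ (hmem5 t ht))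
    have h2 : (c1 : ↥(chevF4.group L)) * (x1 * tauF4 t * x1⁻¹) * (c1 : ↥(chevF4.group L))⁻¹ ∈ CA :=
      mul_mem (mul_mem c1.2 h1) (inv_mem c1.2)
    have h3 := Subgroup.mem_centralizer_iff.1 h2 a ha
    show x⁻¹ * a * x * tauF4 t = tauF4 t * (x⁻¹ * a * x)
    calc x⁻¹ * a * x * tauF4 t = x⁻¹ * (a * ((c1 : ↥(chevF4.group L)) * (x1 * tauF4 t * x1⁻¹) *
          (c1 : ↥(chevF4.group L))⁻¹)) * x := by simp only [x]; group
      _ = x⁻¹ * ((c1 : ↥(chevF4.group L)) * (x1 * tauF4 t * x1⁻¹) * (c1 : ↥(chevF4.group L))⁻¹ * a) * x := by rw [h3]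
      _ = _ := by simp only [x]; group
  have htor : ∀ s, s ∈ A ∨ s ∈ B → ∃ t, x * tauF4 t * x⁻¹ = s := by
    rintro s (hs | hs)
    · obtain ⟨t, ht⟩ := hxA s hs
      exact ⟨t, by rw [ht]; group⟩
    · obtain ⟨p, hp, e⟩ := hBx s hs
      obtain ⟨t, rfl⟩ := hP5 hp
      exact ⟨t, e⟩
  -- correct the element
  set C := Subgroup.centralizer ((A : Set ↥(chevF4.group L)) ∪ (B : Set ↥(chevF4.group L)))
  have hxC : ((x • P5 : Sylow 5 ↥(chevF4.group L)) : Subgroup ↥(chevF4.group L)) ≤ C := by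
    intro a ha
    rw [Sylow.coe_subgroup_smul, Subgroup.mem_smul_pointwise_iff_exists] at ha
    obtain ⟨p, hp, rfl⟩ := ha
    refine Subgroup.mem_centralizer_iff.2 fun s hs => ?_
    obtain ⟨t, rfl⟩ := htor s hs
    obtain ⟨t', rfl⟩ := hP5 hp
    exact (((Commute.all t t').map tauF4).map (MulAut.conj x).toMonoidHom).eq
  have hinv : ∀ (X : Subgroup ↥(chevF4.group L)), (∀ s ∈ X, g * s * g⁻¹ ∈ X) → ∀ s ∈ X, g⁻¹ * s * g ∈ X := by
    intro X hX
    let f : X → X := fun s => ⟨g * s * g⁻¹, hX s s.2⟩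
    have hf : Function.Injective f := fun a b e =>
      Subtype.ext (mul_left_cancel (mul_right_cancel (congrArg Subtype.val e)))
    intro s hs
    obtain ⟨s', e⟩ := Finite.injective_iff_surjective.1 hf ⟨s, hs⟩
    rw [show g⁻¹ * s * g = s'.1 by
      rw [← show g * s'.1 * g⁻¹ = s from congrArg Subtype.val e]; group]
    exact s'.2
  have hgC : ((g • x • P5 : Sylow 5 ↥(chevF4.group L)) : Subgroup ↥(chevF4.group L)) ≤ C := by
    intro a ha
    rw [Sylow.coe_subgroup_smul, Subgroup.mem_smul_pointwise_iff_exists] at ha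
    obtain ⟨b, hb, rfl⟩ := ha
    refine Subgroup.mem_centralizer_iff.2 fun s hs => ?_
    have hs' : g⁻¹ * s * g ∈ (A : Set ↥(chevF4.group L)) ∪ (B : Set ↥(chevF4.group L)) := by
      rcases hs with hs | hs
      · exact Or.inl (hinv A hgA s hs)
      · exact Or.inr (hinv B hgB s hs)
    have h := Subgroup.mem_centralizer_iff.1 (hxC hb) _ hs'
    show s * (g * b * g⁻¹) = g * b * g⁻¹ * s
    calc s * (g * b * g⁻¹) = g * ((g⁻¹ * s * g) * b) * g⁻¹ := by group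
      _ = g * (b * (g⁻¹ * s * g)) * g⁻¹ := by rw [h]
      _ = _ := by group
  obtain ⟨c, hc⟩ := MulAction.exists_smul_eq ↥C ((g • x • P5).subtype hgC) ((x • P5).subtype hxC)
  rw [Sylow.smul_subtype] at hc
  have hc := Sylow.subtype_injective hc
  set y := x⁻¹ * ((c : ↥(chevF4.group L)) * g) * x
  have hyP : ∀ p ∈ (P5 : Subgroup ↥(chevF4.group L)), y * p * y⁻¹ ∈ (P5 : Subgroup ↥(chevF4.group L)) := by
    intro p hp
    have e : (y • P5 : Sylow 5 ↥(chevF4.group L)) = P5 := by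
      simp only [y, mul_smul]
      rw [show ((c : ↥(chevF4.group L)) • g • x • P5 : Sylow 5 ↥(chevF4.group L)) = x • P5 from hc, inv_smul_smul]
    have h1 : y * p * y⁻¹ ∈ ((y • P5 : Sylow 5 ↥(chevF4.group L)) : Subgroup ↥(chevF4.group L)) := by
      rw [Sylow.coe_subgroup_smul]
      exact Subgroup.smul_mem_pointwise_smul p (MulAut.conj y) _ hp
    rwa [e] at h1
  have hmon := monomial_F4 (ℓ := 5) (by simp) h5 y fun t ht => by
    obtain ⟨t', e⟩ := hP5 (hyP _ (hmem5 t ht))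
    exact ⟨t', e.symm, tauF4_inj (by rw [map_pow, map_one, e, conj_pow, ← map_pow, ht, map_one, mul_one, mul_inv_cancel])⟩
  have hgU : ∀ s, s ∈ A ∨ s ∈ B → g * s * g⁻¹ ∈ A ∨ g * s * g⁻¹ ∈ B := fun s hs =>
    hs.imp (hgA s) (hgB s)
  have hpow : ∀ (i : ℕ) (s), s ∈ A ∨ s ∈ B →
      ((c : ↥(chevF4.group L)) * g) ^ i * s * (((c : ↥(chevF4.group L)) * g) ^ i)⁻¹ = g ^ i * s * (g ^ i)⁻¹ ∧
        (g ^ i * s * (g ^ i)⁻¹ ∈ A ∨ g ^ i * s * (g ^ i)⁻¹ ∈ B) := by
    intro i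
    induction i with
    | zero => intro s hs; simp [hs]
    | succ i ih =>
      intro s hs
      obtain ⟨e1, e2⟩ := ih s hs
      have h2 := hgU _ e2
      have h3 := Subgroup.mem_centralizer_iff.1 c.2 _ h2
      refine ⟨?_, by rw [pow_succ']; simpa [mul_assoc] using h2⟩
      calc _ = (c : ↥(chevF4.group L)) * (g * (((c : ↥(chevF4.group L)) * g) ^ i * s *
            (((c : ↥(chevF4.group L)) * g) ^ i)⁻¹) * g⁻¹) * (c : ↥(chevF4.group L))⁻¹ := by
            simp only [pow_succ', mul_inv_rev, mul_assoc]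
        _ = g * (g ^ i * s * (g ^ i)⁻¹) * g⁻¹ := by rw [e1, ← h3, mul_inv_cancel_right]
        _ = _ := by simp only [pow_succ', mul_inv_rev, mul_assoc]
  have hback : ∀ (i : ℕ) (t) (s), s ∈ A ∨ s ∈ B → x * tauF4 t * x⁻¹ = s →
      g ^ i * s * (g ^ i)⁻¹ = x * (y ^ i * tauF4 t * (y ^ i)⁻¹) * x⁻¹ := by
    intro i t s hs e
    rw [← (hpow i s hs).1, ← e]
    have ey : x * y ^ i * x⁻¹ = ((c : ↥(chevF4.group L)) * g) ^ i := by
      rw [← conj_pow]; congr 1; simp only [y]; group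
    rw [← ey]
    group
  rcases monomial_powers hmon with h | h | h
  · refine Or.inl fun s hs => ?_
    obtain ⟨t, e⟩ := htor s hs
    have := hback 6 t s hs e
    rw [(h t).eq, mul_inv_cancel_right, e] at this
    exact mul_inv_eq_iff_eq_mul.1 this
  · refine Or.inr (Or.inl fun s hs => ?_)
    obtain ⟨t, e⟩ := htor s hs
    have := hback 8 t s hs e
    rw [(h t).eq, mul_inv_cancel_right, e] at this
    exact mul_inv_eq_iff_eq_mul.1 this
  · refine Or.inr (Or.inr fun s hs => ?_)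
    obtain ⟨t, e⟩ := htor s hs
    rw [hback 6 t s hs e, h t, ← e]
    group

end Cfsg.Agent.AltSection
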