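import Mathlib.GroupTheory.Sylow

/-! Lifting elements and their normalisers through Sylow groups. -/

set_option autoImplicit false

namespace Cfsg.Agent.AltSection

open scoped Pointwise

variable {Y : Type*} [Group Y] [Finite Y] {Q : Type*} [Group Q] {ℓ : ℕ} [Fact ℓ.Prime]

/-- Powers of a conjugating element. -/
theorem conj_iterate {g u : Q} {m : ℕ} (h : g * u * g⁻¹ = u ^ m) : ∀ k : ℕ, g ^ k * u * (g ^ k)⁻¹ = u ^ m ^ k
  | 0 => by simp
  | k + 1 => by
    rw [pow_succ', show g * g ^ k * u * (g * g ^ k)⁻¹ = g * (g ^ k * u * (g ^ k)⁻¹) * g⁻¹ by group,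
      conj_iterate h k, ← conj_pow, h, ← pow_mul, ← pow_succ']

/-- If the image of a subgroup is commutative, its Sylow groups cover the elements of order `ℓ` of the image. -/
theorem exists_sylow_lift (π : Y →* Q) (U : Subgroup Y) (hU : ∀ a ∈ U, ∀ b ∈ U, Commute (π a) (π b))
    (S : Sylow ℓ ↥U) {u : Q} (hu : u ∈ U.map π) (hul : u ^ ℓ = 1) :
    ∃ s ∈ (S : Subgroup ↥U).map U.subtype, π s = u := by
  have hs := π.subgroupMap_surjective U
  haveI : Finite ↥(U.map π) := Finite.of_surjective _ hs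
  let u' : ↥(U.map π) := ⟨u, hu⟩
  obtain ⟨T, hT⟩ := (show IsPGroup ℓ (Subgroup.zpowers u') from fun y => ⟨1, by
    obtain ⟨i, hi⟩ := y.2
    refine Subtype.ext ?_
    have h1 : u' ^ ℓ = 1 := Subtype.ext hul
    rw [pow_one, Subgroup.coe_pow, ← hi, ← zpow_natCast, ← zpow_mul, mul_comm, zpow_mul, zpow_natCast, h1, one_zpow,
      Subgroup.coe_one]⟩).exists_le_sylow
  obtain ⟨c, hc⟩ := MulAction.exists_smul_eq ↥(U.map π) (S.mapSurjective hs) T
  have hm := hT (Subgroup.mem_zpowers u')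
  rw [← hc, Sylow.coe_subgroup_smul, Subgroup.mem_smul_pointwise_iff_exists, Sylow.coe_mapSurjective] at hm
  obtain ⟨d, ⟨s, hsS, rfl⟩, e⟩ := hm
  refine ⟨(s : Y), ⟨s, hsS, rfl⟩, ?_⟩
  obtain ⟨c', hc', ec⟩ := c.2
  have e' : (c : Q) * π s * (c : Q)⁻¹ = u := congrArg Subtype.val e
  rwa [← ec, (hU _ hc' _ s.2).eq, mul_inv_cancel_right] at e'

/-- An element normalising a subgroup can be corrected inside it to normalise a Sylow group. -/
theorem exists_norm (U : Subgroup Y) (S : Sylow ℓ ↥U) {h : Y} (hh : ∀ x ∈ U, h * x * h⁻¹ ∈ U) :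
    ∃ y ∈ U, ∀ x ∈ (S : Subgroup ↥U).map U.subtype,
      y * h * x * (y * h)⁻¹ ∈ (S : Subgroup ↥U).map U.subtype := by
  set S0 := (S : Subgroup ↥U).map U.subtype
  have hle : S0.map (MulAut.conj h).toMonoidHom ≤ U := by
    rintro _ ⟨_, ⟨x, -, rfl⟩, rfl⟩; exact hh x x.2
  let S' : Subgroup ↥U := (S0.map (MulAut.conj h).toMonoidHom).subgroupOf U
  have hc : Nat.card S' = ℓ ^ (Nat.card ↥U).factorization ℓ := by
    rw [Nat.card_congr (Subgroup.subgroupOfEquivOfLe hle).toEquiv,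
      ← Nat.card_congr (S0.equivMapOfInjective _ (MulAut.conj h).injective).toEquiv,
      ← Nat.card_congr ((S : Subgroup ↥U).equivMapOfInjective _ U.subtype_injective).toEquiv, S.card_eq_multiplicity]
  obtain ⟨y, hy⟩ := MulAction.exists_smul_eq ↥U (Sylow.ofCard S' hc) S
  refine ⟨y, y.2, fun x hx => ?_⟩
  have hm1 : (⟨h * x * h⁻¹, hle ⟨x, hx, rfl⟩⟩ : ↥U) ∈ S' := ⟨x, hx, rfl⟩
  have hm2 : y * ⟨h * x * h⁻¹, hle ⟨x, hx, rfl⟩⟩ * y⁻¹ ∈ (S : Subgroup ↥U) := by
    rw [← hy, Sylow.coe_subgroup_smul]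
    exact Subgroup.smul_mem_pointwise_smul _ (MulAut.conj y) _ hm1
  refine ⟨_, hm2, ?_⟩
  simp [mul_assoc]

/-- An element normalising a cyclic group lifts to one normalising a Sylow group over it, up to that group. -/
theorem exists_norm_lift {π : Y →* Q} (hπ : Function.Surjective π) {u : Q}
    (S : Sylow ℓ ↥((Subgroup.zpowers u).comap π)) {q : Q} {m : ℕ} (hq : q * u * q⁻¹ = u ^ m) :
    ∃ g : Y, (∀ x ∈ (S : Subgroup ↥((Subgroup.zpowers u).comap π)).map (Subgroup.subtype _),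
        g * x * g⁻¹ ∈ (S : Subgroup ↥((Subgroup.zpowers u).comap π)).map (Subgroup.subtype _)) ∧
      ∃ i : ℤ, π g = u ^ i * q := by
  obtain ⟨h, rfl⟩ := hπ q
  obtain ⟨y, hy, hn⟩ := exists_norm _ S (h := h) fun x hx => by
    obtain ⟨i, hi⟩ := hx
    refine ⟨(m : ℤ) * i, ?_⟩
    show u ^ ((m : ℤ) * i) = π (h * x * h⁻¹)
    have hi' : u ^ i = π x := hi
    rw [map_mul, map_mul, map_inv, ← hi', zpow_mul, zpow_natCast, ← hq, conj_zpow]
  obtain ⟨i, hi⟩ := hy
  exact ⟨y * h, hn, i, by rw [map_mul]; exact congrArg (· * π h) hi.symm⟩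

end Cfsg.Agent.AltSection
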