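import Cfsg.Agent.Lib.AltSection.F4
import Cfsg.Agent.Lib.AltSection.Frattini
import Cfsg.Agent.Lib.AltSection.Embed

/-! No alternating sections of degree eleven, or twelve, in `F₄(q)`. -/

set_option autoImplicit false
set_option maxRecDepth 8000

namespace Cfsg.Agent.AltSection

open Cfsg.Lie Cfsg.Agent.Chev

variable {L : Type*} [Field L] [Fintype L]

/-- The automisers of five-, seven- and eleven-groups have exponent dividing twenty-four. -/
theorem twentyfour_local {ℓ : ℕ} [Fact ℓ.Prime] (hl : ℓ ∈ [5, 7, 11]) (hq : Fintype.card L % ℓ = 1)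
    {S : Subgroup ↥(chevF4.group L)} (hS : IsPGroup ℓ S) {g : ↥(chevF4.group L)}
    (hg : ∀ s ∈ S, g * s * g⁻¹ ∈ S) : ∀ s ∈ S, Commute (g ^ 24) s := by
  classical
  obtain ⟨m, hcard, hm⟩ := card_F4_split hl hq
  obtain ⟨P, hab, hP, hmem⟩ := sylow_torus (tauF4 (L := L)) tauF4_inj m hcard hm
  refine pow_commute_of_sylow P hab 24 (fun y hy p hp => ?_) hS hg
  obtain ⟨q, rfl⟩ := hP hp
  have hmon := monomial_F4 hl hq y fun t ht => by
    obtain ⟨t', e⟩ := hP (hy _ (hmem t ht))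
    exact ⟨t', e.symm, tauF4_inj (by rw [map_pow, map_one, e, conj_pow, ← map_pow, ht, map_one, mul_one, mul_inv_cancel])⟩
  rcases monomial_powers hmon with h | h | h
  · rw [show 24 = 6 * 4 from rfl, pow_mul]; exact (h q).pow_left 4
  · rw [show 24 = 8 * 3 from rfl, pow_mul]; exact (h q).pow_left 3
  · have h12 : Commute (y ^ 12) (tauF4 q) := by
      refine mul_inv_eq_iff_eq_mul.1 ?_
      rw [show 12 = 6 + 6 from rfl, pow_add, show y ^ 6 * y ^ 6 * tauF4 q * (y ^ 6 * y ^ 6)⁻¹ =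
        y ^ 6 * (y ^ 6 * tauF4 q * (y ^ 6)⁻¹) * (y ^ 6)⁻¹ by group, h, ← map_inv, h, ← map_inv, inv_inv]
    rw [show 24 = 12 * 2 from rfl, pow_mul]; exact h12.pow_left 2

section

variable {Y : Type*} [Group Y] [Finite Y] {Q : Type*} [Group Q] {π : Y →* Q} (hπ : Function.Surjective π)
  {φ : Y →* ↥(chevF4.group L)} (hφ : Function.Injective φ)
include hπ hφ

/-- No section with an element of order eleven conjugate to its cube. -/
theorem no_eleven (hq : Fintype.card L % 11 = 1) {u w : Q} (hu : u ^ 11 = 1) (hu1 : u ≠ 1)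
    (hwu : w * u * w⁻¹ = u ^ 3) : False := by
  haveI : Fact (Nat.Prime 11) := ⟨by norm_num⟩
  have hord : orderOf u = 11 := orderOf_eq_prime hu hu1
  let S : Sylow 11 ↥((Subgroup.zpowers u).comap π) := Classical.arbitrary _
  obtain ⟨s, hs, hsu⟩ := exists_sylow_lift π ((Subgroup.zpowers u).comap π) (fun a ha b hb => by
      obtain ⟨i, hi⟩ := ha
      obtain ⟨j, hj⟩ := hb
      rw [← hi, ← hj]; exact Commute.zpow_zpow_self u i j) S
    (by rw [Subgroup.map_comap_eq_self_of_surjective hπ]; exact Subgroup.mem_zpowers u) hu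
  obtain ⟨g, hg, i, hi⟩ := exists_norm_lift hπ S hwu
  have hloc := twentyfour_local (ℓ := 11) (by simp) hq ((S.2.map (Subgroup.subtype _)).map φ) (g := φ g)
    (by rintro _ ⟨x, hx, rfl⟩; exact ⟨_, hg x hx, by simp⟩) _ ⟨s, hs, rfl⟩
  have hc : Commute (π g ^ 24) u := by
    rw [← map_pow, ← hsu]
    exact (show Commute (g ^ 24) s from hφ (by rw [map_mul, map_mul, map_pow]; exact hloc.eq)).map π
  have hgu : π g * u * (π g)⁻¹ = u ^ 3 := by
    rw [hi, show u ^ i * w * u * (u ^ i * w)⁻¹ = u ^ i * (w * u * w⁻¹) * (u ^ i)⁻¹ by group, hwu,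
      ((Commute.refl u).zpow_left i |>.pow_right 3).eq, mul_inv_cancel_right]
  have h := conj_iterate hgu 24
  rw [hc.eq, mul_inv_cancel_right, pow_eq_pow_mod _ hu, show 3 ^ 24 % 11 = 4 from by norm_num] at h
  have h3 : u ^ 3 = 1 := mul_eq_right.1 (by rw [← pow_succ]; exact h.symm)
  have := orderOf_dvd_of_pow_eq_one h3
  rw [hord] at this
  omega

/-- No section with commuting elements of orders seven and five raised to the powers three and two. -/
theorem no_thirty_five (h5 : Fintype.card L % 5 = 1) (h7 : Fintype.card L % 7 = 1) {u v w : Q} (hu : u ^ 7 = 1)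
    (hu1 : u ≠ 1) (hv : v ^ 5 = 1) (hv1 : v ≠ 1) (huv : Commute u v) (hwu : w * u * w⁻¹ = u ^ 3)
    (hwv : w * v * w⁻¹ = v ^ 2) : False := by
  haveI : Fact (Nat.Prime 5) := ⟨by norm_num⟩
  haveI : Fact (Nat.Prime 7) := ⟨by norm_num⟩
  let S7 : Sylow 7 ↥((Subgroup.zpowers u).comap π) := Classical.arbitrary _
  set A : Subgroup Y := (S7 : Subgroup ↥((Subgroup.zpowers u).comap π)).map (Subgroup.subtype _) with hA
  obtain ⟨a, ha, hau⟩ := exists_sylow_lift π ((Subgroup.zpowers u).comap π) (fun x hx y hy => by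
      obtain ⟨i, hi⟩ := hx
      obtain ⟨j, hj⟩ := hy
      rw [← hi, ← hj]; exact Commute.zpow_zpow_self u i j) S7
    (by rw [Subgroup.map_comap_eq_self_of_surjective hπ]; exact Subgroup.mem_zpowers u) hu
  -- the group over the product
  let Z : Subgroup Q := Subgroup.closure {u, v}
  have hZc : ∀ z ∈ Z, Commute z u ∧ Commute z v := by
    intro z hz
    induction hz using Subgroup.closure_induction with
    | mem x hx =>
      simp only [Set.mem_insert_iff, Set.mem_singleton_iff] at hx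
      rcases hx with rfl | rfl
      · exact ⟨Commute.refl _, huv⟩
      · exact ⟨huv.symm, Commute.refl _⟩
    | one => exact ⟨Commute.one_left _, Commute.one_left _⟩
    | mul x y _ _ h1 h2 => exact ⟨h1.1.mul_left h2.1, h1.2.mul_left h2.2⟩
    | inv x _ h => exact ⟨h.1.inv_left, h.2.inv_left⟩
  have hZab : ∀ z ∈ Z, ∀ z' ∈ Z, Commute z z' := by
    intro z hz z' hz'
    have hle : Z ≤ Subgroup.centralizer ({z} : Set Q) := (Subgroup.closure_le _).2 (by
      intro x hx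
      simp only [Set.mem_insert_iff, Set.mem_singleton_iff] at hx
      refine Subgroup.mem_centralizer_singleton_iff.2 ?_
      rcases hx with rfl | rfl
      · exact (hZc z hz).1.eq.symm
      · exact (hZc z hz).2.eq.symm)
    exact (Subgroup.mem_centralizer_singleton_iff.1 (hle hz')).symm
  have huZ : u ∈ Z := Subgroup.subset_closure (by simp)
  have hvZ : v ∈ Z := Subgroup.subset_closure (by simp)
  let V : Subgroup Y := Z.comap π ⊓ Subgroup.normalizer (A : Set Y)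
  have hVab : ∀ x ∈ V, ∀ y ∈ V, Commute (π x) (π y) := fun x hx y hy => hZab _ hx.1 _ hy.1
  have hnormal : ∀ g, (∀ x ∈ A, g * x * g⁻¹ ∈ A) → g ∈ Subgroup.normalizer (A : Set Y) := by
    intro g hg
    let f : A → A := fun x => ⟨g * x * g⁻¹, hg x x.2⟩
    have hf : Function.Injective f := fun x y e =>
      Subtype.ext (mul_left_cancel (mul_right_cancel (congrArg Subtype.val e)))
    refine Subgroup.mem_normalizer_iff.2 fun x => ⟨hg x, fun hx => ?_⟩
    obtain ⟨x', e⟩ := Finite.injective_iff_surjective.1 hf ⟨_, hx⟩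
    have : x'.1 = x := mul_left_cancel (mul_right_cancel (congrArg Subtype.val e))
    exact this ▸ x'.2
  obtain ⟨g0, hg0, i, hi⟩ := exists_norm_lift hπ S7 (q := v) (m := 1)
    (by rw [pow_one, ← huv.eq, mul_inv_cancel_right])
  have hvV : v ∈ V.map π := by
    have hg0V : g0 ∈ V := ⟨show π g0 ∈ Z by rw [hi]; exact mul_mem (zpow_mem huZ i) hvZ, hnormal g0 hg0⟩
    refine ⟨g0 ^ 21, pow_mem hg0V 21, ?_⟩
    rw [map_pow, hi, (huv.zpow_left i).mul_pow, ← zpow_natCast (u ^ i), ← zpow_mul, mul_comm, zpow_mul,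
        show u ^ ((21 : ℕ) : ℤ) = 1 by rw [zpow_natCast, show 21 = 7 * 3 from rfl, pow_mul, hu, one_pow], one_zpow,
        one_mul, pow_eq_pow_mod _ hv, show 21 % 5 = 1 from rfl, pow_one]
  let S5 : Sylow 5 ↥V := Classical.arbitrary _
  set B : Subgroup Y := (S5 : Subgroup ↥V).map V.subtype with hB
  obtain ⟨b, hb, hbv⟩ := exists_sylow_lift π V hVab S5 hvV hv
  obtain ⟨g1, hg1, j, hj⟩ := exists_norm_lift hπ S7 hwu
  have hconj : ∀ k : ℤ, u ^ k * w * u * (u ^ k * w)⁻¹ = u ^ 3 ∧ u ^ k * w * v * (u ^ k * w)⁻¹ = v ^ 2 := fun k =>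
    ⟨by rw [show u ^ k * w * u * (u ^ k * w)⁻¹ = u ^ k * (w * u * w⁻¹) * (u ^ k)⁻¹ by group, hwu,
      ((Commute.refl u).zpow_left k |>.pow_right 3).eq, mul_inv_cancel_right],
     by rw [show u ^ k * w * v * (u ^ k * w)⁻¹ = u ^ k * (w * v * w⁻¹) * (u ^ k)⁻¹ by group, hwv,
      ((huv.zpow_left k).pow_right 2).eq, mul_inv_cancel_right]⟩
  have hZn : ∀ z ∈ Z, π g1 * z * (π g1)⁻¹ ∈ Z := by
    intro z hz
    have hle : Z ≤ Z.comap (MulAut.conj (π g1)).toMonoidHom := (Subgroup.closure_le _).2 (by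
      intro x hx
      simp only [Set.mem_insert_iff, Set.mem_singleton_iff] at hx
      show π g1 * x * (π g1)⁻¹ ∈ Z
      rw [hj]
      rcases hx with rfl | rfl
      · rw [(hconj j).1]; exact pow_mem huZ 3
      · rw [(hconj j).2]; exact pow_mem hvZ 2)
    exact hle hz
  obtain ⟨y, hy, hg2⟩ := exists_norm V S5 (h := g1) fun x hx => ⟨by
      show π (g1 * x * g1⁻¹) ∈ Z
      rw [map_mul, map_mul, map_inv]; exact hZn _ hx.1,
    show g1 * x * g1⁻¹ ∈ Subgroup.normalizer (A : Set Y) from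
      mul_mem (mul_mem (hnormal g1 hg1) hx.2) (inv_mem (hnormal g1 hg1))⟩
  set g := y * g1 with hg
  have hgA : ∀ x ∈ A, g * x * g⁻¹ ∈ A := fun x hx =>
    (Subgroup.mem_normalizer_iff.1 (mul_mem hy.2 (hnormal g1 hg1)) x).1 hx
  -- the two groups commute
  have hA7 : IsPGroup 7 ↥(A.map φ) := (S7.2.map _).map φ
  have hB5 : IsPGroup 5 ↥(B.map φ) := (S5.2.map _).map φ
  have hBV : B ≤ V := by rintro _ ⟨x, -, rfl⟩; exact x.2
  have hAB : ∀ x ∈ A.map φ, ∀ x' ∈ B.map φ, Commute x x' := by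
    intro x hx x' hx'
    have h24 := twentyfour_local (ℓ := 7) (by simp) h7 hA7 (g := x') (by
      obtain ⟨x', hx', rfl⟩ := hx'
      rintro _ ⟨z, hz, rfl⟩
      exact ⟨_, (Subgroup.mem_normalizer_iff.1 (hBV hx').2 z).1 hz, by simp⟩) x hx
    obtain ⟨k, hk⟩ := hB5 ⟨x', hx'⟩
    have hk' : x' ^ 5 ^ k = 1 := congrArg Subtype.val hk
    obtain ⟨c, -, hc⟩ := Nat.exists_mul_mod_eq_of_coprime 1 (Nat.Coprime.pow_right k (by norm_num : Nat.Coprime 24 5))
      (pow_ne_zero k (by norm_num))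
    have e : x' = (x' ^ 24) ^ c := by
      rw [← pow_mul, pow_eq_pow_mod _ hk', hc, ← pow_eq_pow_mod _ hk', pow_one]
    rw [e]
    exact (h24.pow_left c).symm
  have hloc := thirty_five_local h5 h7 hA7 hB5 hAB (g := φ g)
    (by rintro _ ⟨x, hx, rfl⟩; exact ⟨_, hgA x hx, by simp⟩)
    (by rintro _ ⟨x, hx, rfl⟩; exact ⟨_, hg2 x hx, by simp [hg]⟩)
  have hgu : π g * u * (π g)⁻¹ = u ^ 3 ∧ π g * v * (π g)⁻¹ = v ^ 2 := by
    rw [hg, map_mul, hj]
    have hc := hZc _ hy.1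
    exact ⟨by
      rw [show π y * (u ^ j * w) * u * (π y * (u ^ j * w))⁻¹ = π y * (u ^ j * w * u * (u ^ j * w)⁻¹) * (π y)⁻¹ by group,
        (hconj j).1, (hc.1.pow_right 3).eq, mul_inv_cancel_right], by
      rw [show π y * (u ^ j * w) * v * (π y * (u ^ j * w))⁻¹ = π y * (u ^ j * w * v * (u ^ j * w)⁻¹) * (π y)⁻¹ by group,
        (hconj j).2, (hc.2.pow_right 2).eq, mul_inv_cancel_right]⟩
  have ku := conj_iterate hgu.1
  have kv := conj_iterate hgu.2
  have hou : orderOf u = 7 := orderOf_eq_prime hu hu1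
  have hov : orderOf v = 5 := orderOf_eq_prime hv hv1
  have lift : ∀ (k : ℕ) (x : Y) (q : Y), φ g ^ k * φ x * (φ g ^ k)⁻¹ = φ q →
      π g ^ k * π x * (π g ^ k)⁻¹ = π q := by
    intro k x q e
    rw [← map_pow, ← map_inv, ← map_mul, ← map_mul] at e
    rw [← map_pow, ← map_inv, ← map_mul, ← map_mul, hφ e]
  rcases hloc with h | h | h
  · have e := lift 6 b b (by rw [(h (φ b) (Or.inr ⟨b, hb, rfl⟩)).eq, mul_inv_cancel_right])
    rw [hbv, kv 6, pow_eq_pow_mod _ hv, show 2 ^ 6 % 5 = 4 from rfl] at e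
    have := orderOf_dvd_of_pow_eq_one (mul_eq_right.1 (by rw [← pow_succ]; exact e) : v ^ 3 = 1)
    rw [hov] at this
    omega
  · have e := lift 8 a a (by rw [(h (φ a) (Or.inl ⟨a, ha, rfl⟩)).eq, mul_inv_cancel_right])
    rw [hau, ku 8, pow_eq_pow_mod _ hu, show 3 ^ 8 % 7 = 2 from rfl, pow_two, mul_eq_left] at e
    exact hu1 e
  · have e := lift 6 a a⁻¹ (by rw [h (φ a) (Or.inl ⟨a, ha, rfl⟩), map_inv])
    rw [map_inv, hau, ku 6, pow_eq_pow_mod _ hu, show 3 ^ 6 % 7 = 1 from rfl, pow_one] at e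
    have := orderOf_dvd_of_pow_eq_one (show u ^ 2 = 1 by rw [pow_two]; exact mul_eq_one_iff_eq_inv.2 e)
    rw [hou] at this
    omega

end

/-- No alternating sections of degree eleven. -/
theorem le_ten_F4 (hq : Fintype.card L % 11 = 1) {G' : Type*} [Group G'] [Finite G'] (f : G' →* ↥(chevF4.group L))
    (hf : Function.Injective f) (r : ℕ) (H : Subgroup G') (N : Subgroup ↥H) [N.Normal]
    (h : Nonempty (↥H ⧸ N ≃* ↥(alternatingGroup (Fin r)))) : r ≤ 10 := by
  by_contra hr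
  obtain ⟨e⟩ := h
  let π : ↥H →* ↥(alternatingGroup (Fin r)) := e.toMonoidHom.comp (QuotientGroup.mk' N)
  have hπ : Function.Surjective π := e.surjective.comp (QuotientGroup.mk'_surjective N)
  obtain ⟨emb, hemb⟩ := exists_embed (n := 11) (r := r) (by omega)
  have key : ∃ u w : Equiv.Perm (Fin 11), Equiv.Perm.sign u = 1 ∧ Equiv.Perm.sign w = 1 ∧ u ^ 11 = 1 ∧ u ≠ 1 ∧
      w * u * w⁻¹ = u ^ 3 :=
    ⟨⟨![1, 2, 3, 4, 5, 6, 7, 8, 9, 10, 0], ![10, 0, 1, 2, 3, 4, 5, 6, 7, 8, 9], by decide +kernel, by decide +kernel⟩,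
      ⟨![0, 3, 6, 9, 1, 4, 7, 10, 2, 5, 8], ![0, 4, 8, 1, 5, 9, 2, 6, 10, 3, 7], by decide +kernel, by decide +kernel⟩,
      by decide +kernel, by decide +kernel, by decide +kernel, by decide +kernel, by decide +kernel⟩
  obtain ⟨u0, w0, su, sw, hu, hu1, hconj⟩ := key
  refine no_eleven hπ (φ := f.comp H.subtype) (hf.comp H.subtype_injective) hq
    (u := emb ⟨u0, Equiv.Perm.mem_alternatingGroup.2 su⟩) (w := emb ⟨w0, Equiv.Perm.mem_alternatingGroup.2 sw⟩)
    ?_ (fun h => hu1 (congrArg Subtype.val ((injective_iff_map_eq_one emb).1 hemb _ h))) ?_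
  · rw [← map_pow, ← map_one emb]; exact congrArg emb (Subtype.ext hu)
  · rw [← map_inv, ← map_mul, ← map_mul, ← map_pow]; exact congrArg emb (Subtype.ext hconj)

/-- No alternating sections of degree twelve. -/
theorem le_eleven_F4 (h5 : Fintype.card L % 5 = 1) (h7 : Fintype.card L % 7 = 1) {G' : Type*} [Group G'] [Finite G']
    (f : G' →* ↥(chevF4.group L))
    (hf : Function.Injective f) (r : ℕ) (H : Subgroup G') (N : Subgroup ↥H) [N.Normal]
    (h : Nonempty (↥H ⧸ N ≃* ↥(alternatingGroup (Fin r)))) : r ≤ 11 := by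
  by_contra hr
  obtain ⟨e⟩ := h
  let π : ↥H →* ↥(alternatingGroup (Fin r)) := e.toMonoidHom.comp (QuotientGroup.mk' N)
  have hπ : Function.Surjective π := e.surjective.comp (QuotientGroup.mk'_surjective N)
  obtain ⟨emb, hemb⟩ := exists_embed (n := 12) (r := r) (by omega)
  have key : ∃ u v w : Equiv.Perm (Fin 12), Equiv.Perm.sign u = 1 ∧ Equiv.Perm.sign v = 1 ∧ Equiv.Perm.sign w = 1 ∧
      u ^ 7 = 1 ∧ u ≠ 1 ∧ v ^ 5 = 1 ∧ v ≠ 1 ∧ u * v = v * u ∧ w * u * w⁻¹ = u ^ 3 ∧ w * v * w⁻¹ = v ^ 2 :=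
    ⟨⟨![1, 2, 3, 4, 5, 6, 0, 7, 8, 9, 10, 11], ![6, 0, 1, 2, 3, 4, 5, 7, 8, 9, 10, 11], by decide +kernel, by decide +kernel⟩,
      ⟨![0, 1, 2, 3, 4, 5, 6, 8, 9, 10, 11, 7], ![0, 1, 2, 3, 4, 5, 6, 11, 7, 8, 9, 10], by decide +kernel, by decide +kernel⟩,
      ⟨![0, 3, 6, 2, 5, 1, 4, 7, 9, 11, 8, 10], ![0, 5, 3, 1, 6, 4, 2, 7, 10, 8, 11, 9], by decide +kernel, by decide +kernel⟩,
      by decide +kernel, by decide +kernel, by decide +kernel, by decide +kernel, by decide +kernel, by decide +kernel,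
      by decide +kernel, by decide +kernel, by decide +kernel, by decide +kernel⟩
  obtain ⟨u0, v0, w0, su, sv, sw, hu, hu1, hv, hv1, huv, hwu, hwv⟩ := key
  refine no_thirty_five hπ (φ := f.comp H.subtype) (hf.comp H.subtype_injective) h5 h7
    (u := emb ⟨u0, Equiv.Perm.mem_alternatingGroup.2 su⟩) (v := emb ⟨v0, Equiv.Perm.mem_alternatingGroup.2 sv⟩)
    (w := emb ⟨w0, Equiv.Perm.mem_alternatingGroup.2 sw⟩) ?_
    (fun h => hu1 (congrArg Subtype.val ((injective_iff_map_eq_one emb).1 hemb _ h))) ?_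
    (fun h => hv1 (congrArg Subtype.val ((injective_iff_map_eq_one emb).1 hemb _ h)))
    ((show Commute (⟨u0, _⟩ : ↥(alternatingGroup (Fin 12))) ⟨v0, _⟩ from Subtype.ext huv).map emb) ?_ ?_
  · rw [← map_pow, ← map_one emb]; exact congrArg emb (Subtype.ext hu)
  · rw [← map_pow, ← map_one emb]; exact congrArg emb (Subtype.ext hv)
  · rw [← map_inv, ← map_mul, ← map_mul, ← map_pow]; exact congrArg emb (Subtype.ext hwu)
  · rw [← map_inv, ← map_mul, ← map_mul, ← map_pow]; exact congrArg emb (Subtype.ext hwv)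

end Cfsg.Agent.AltSection
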