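import Cfsg.Agent.Lib.AltSection.Torus
import Cfsg.Agent.Lib.Chev.MonomialConj
import Cfsg.Agent.S1059
import Cfsg.Agent.S1039
import Mathlib.FieldTheory.Finite.Extension

/-! Alternating sections of the groups `G₂(q)`. -/

set_option autoImplicit false
set_option maxRecDepth 8000

namespace Cfsg.Agent.AltSection

open Cfsg.Lie Cfsg.Agent.Chev

theorem chars_five_G2 : ((List.range 12).all fun r =>
    !(G2.pk.A 0 r % 5 == 0 && G2.pk.A 1 r % 5 == 0)) = true := by decide +kernel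

variable {L : Type*} [Field L] [Fintype L]

/-- The torus. -/
noncomputable def tauG2 : (Fin G2.pk.rank → Lˣ) →* ↥(chevG2.group L) :=
  (G2.ok.hHom (F := L)).codRestrict _ fun c => G2.ok.diagonal_le_group (G2.ok.mem_diagonal_iff.2 ⟨c, rfl⟩)

theorem tauG2_inj : Function.Injective (tauG2 (L := L)) := fun a b e =>
  G2.ok.hHom_injective smith_G2 (by decide +kernel) (congrArg Subtype.val e)

theorem card_torus : Nat.card (Fin G2.pk.rank → Lˣ) = (Fintype.card L - 1) ^ 2 := by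
  classical
  rw [Nat.card_fun, Nat.card_eq_fintype_card, Fintype.card_units, Nat.card_fin, show G2.pk.rank = 2 from rfl]

theorem card_G2_split :
    Nat.card ↥(chevG2.group L) = (Fintype.card L - 1) ^ 2 * (Fintype.card L ^ 6 * (Fintype.card L + 1) *
      (Fintype.card L + 1) * (Fintype.card L ^ 4 + Fintype.card L ^ 2 + 1)) := by
  rw [Cfsg.Agent.S1059.result (F := L) rfl]
  obtain ⟨p, hp⟩ : ∃ p, Fintype.card L = p + 1 := ⟨Fintype.card L - 1, by have := Fintype.card_pos (α := L); omega⟩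
  rw [hp]
  have h2 : (p + 1) ^ 2 - 1 = p * (p + 2) := by
    have : (p + 1) ^ 2 = p * (p + 2) + 1 := by ring
    omega
  have h6 : (p + 1) ^ 6 - 1 = p * (p + 2) * ((p + 1) ^ 4 + (p + 1) ^ 2 + 1) := by
    have : (p + 1) ^ 6 = p * (p + 2) * ((p + 1) ^ 4 + (p + 1) ^ 2 + 1) + 1 := by ring
    omega
  rw [h2, h6, Nat.add_sub_cancel]
  ring

theorem fiveLocal_G2 (h5 : Fintype.card L % 5 = 1) : FiveLocal ↥(chevG2.group L) := by
  classical
  haveI : Fact (Nat.Prime 5) := ⟨by norm_num⟩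
  obtain ⟨φW, -, hker, -⟩ := Cfsg.Agent.S1039.result (F := L) (chevG2, ⟨2, CoxeterMatrix.G₂⟩) (by simp)
  obtain ⟨ζ, hζ⟩ : ∃ ζ : Lˣ, orderOf ζ = 5 :=
    exists_prime_orderOf_dvd_card' 5 (by rw [Nat.card_eq_fintype_card, Fintype.card_units]; omega)
  refine fiveLocal_torus (tauG2 (L := L)) tauG2_inj _ (by rw [card_torus]; exact card_G2_split) (fun h => ?_)
    fun y hy => ?_
  · have h' := Nat.dvd_iff_mod_eq_zero.1 h
    simp [Nat.mul_mod, Nat.add_mod, Nat.pow_mod, h5] at h'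
  choose d hd hd5 using fun t : {t : Fin G2.pk.rank → Lˣ // t ^ 5 = 1} => hy t.1 t.2
  let d' : {t : Fin G2.pk.rank → Lˣ // t ^ 5 = 1} → {t : Fin G2.pk.rank → Lˣ // t ^ 5 = 1} :=
    fun t => ⟨d t, hd5 t⟩
  have hdinj : Function.Injective d' := fun a b e => by
    have e' : d a = d b := congrArg Subtype.val e
    exact Subtype.ext (tauG2_inj (mul_left_cancel (mul_right_cancel ((hd a).trans (e' ▸ (hd b).symm)))))
  have hζ5 : ζ ^ 5 = 1 := hζ ▸ pow_orderOf_eq_one ζ
  have h1 : ∀ r < G2.pk.nroots, ∃ t : {t : Fin G2.pk.rank → Lˣ // t ^ 5 = 1}, hchar G2.pk t.1 r ≠ 1 := by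
    intro r hr
    have hk := List.all_eq_true.1 chars_five_G2 r (List.mem_range.2 hr)
    by_contra hcon
    push Not at hcon
    have hz : ∀ i : Fin G2.pk.rank, G2.pk.A i r % 5 = 0 := by
      intro i
      have h := hcon ⟨Pi.mulSingle i ζ, by rw [← Pi.mulSingle_pow, hζ5, Pi.mulSingle_one]⟩
      simp only [hchar] at h
      rw [Finset.prod_eq_single i (fun j _ hj => by rw [Pi.mulSingle_eq_of_ne hj]; simp) (by simp),
        Pi.mulSingle_eq_same] at h
      have e' : (ζ ^ (G2.pk.A i r) : Lˣ) = 1 := Units.ext (by rw [Units.val_zpow_eq_zpow_val, h, Units.val_one])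
      have hd := orderOf_dvd_iff_zpow_eq_one.2 e'
      rw [hζ] at hd
      exact Int.emod_eq_zero_of_dvd hd
    have h0 := hz ⟨0, by decide⟩
    have h1' := hz ⟨1, by decide⟩
    simp at h0 h1' hk
    simp [h0, h1'] at hk
  have hmon : (y : GL chevG2.Idx L) ∈ chevG2.monomialSubgroup L := by
    refine G2.ok.monomial_of_conj ckComm_G2 (fun t : {t : Fin G2.pk.rank → Lˣ // t ^ 5 = 1} => t.1) (fun t => d t)
      h1 (fun r hr => ?_) y.2 fun t => congrArg Subtype.val (hd t)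
    obtain ⟨t, ht⟩ := h1 r hr
    obtain ⟨t', e⟩ := (Finite.injective_iff_surjective.1 hdinj) t
    exact ⟨t', by rw [show d t' = t.1 from congrArg Subtype.val e]; exact ht⟩
  have h6 : (⟨y, hmon⟩ : ↥(chevG2.monomialSubgroup L)) ^ 6 ∈ φW.ker := by
    rw [MonoidHom.mem_ker, map_pow, coxeter_pow_six]
  rw [hker] at h6
  obtain ⟨c, hc⟩ := G2.ok.mem_diagonal_iff.1 (Subgroup.mem_subgroupOf.1 h6)
  exact ⟨c, Subtype.ext hc.symm⟩

theorem le_seven_G2 (h4 : Fintype.card L % 4 = 1) (r : ℕ) (H : Subgroup ↥(chevG2.group L)) (N : Subgroup ↥H)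
    [N.Normal] (h : Nonempty (↥H ⧸ N ≃* ↥(alternatingGroup (Fin r)))) : r ≤ 7 := by
  classical
  obtain ⟨φW, hsur, hker, -⟩ := Cfsg.Agent.S1039.result (F := L) (chevG2, ⟨2, CoxeterMatrix.G₂⟩) (by simp)
  let M : Subgroup ↥(chevG2.group L) := (chevG2.monomialSubgroup L).subgroupOf _
  let e : ↥M ≃* ↥(chevG2.monomialSubgroup L) := Subgroup.subgroupOfEquivOfLe G2.ok.monomial_le_group
  have hT2 : {t : Fin G2.pk.rank → Lˣ | t ^ 2 = 1}.ncard ≤ 4 := by
    have hc : ({t : Lˣ | t ^ 2 = 1}).ncard ≤ 2 := by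
      calc ({t : Lˣ | t ^ 2 = 1}).ncard ≤ ({1, -1} : Set Lˣ).ncard := Set.ncard_le_ncard (fun t ht => by
            have : (t : L) ^ 2 = 1 := by rw [← Units.val_pow_eq_pow_val, show t ^ 2 = 1 from ht, Units.val_one]
            rcases sq_eq_one_iff.1 this with h | h
            · exact Or.inl (Units.ext h)
            · exact Or.inr (Units.ext (by simpa using h))) (Set.toFinite _)
        _ ≤ 2 := (Set.ncard_insert_le _ _).trans (by rw [Set.ncard_singleton])
    calc {t : Fin G2.pk.rank → Lˣ | t ^ 2 = 1}.ncard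
        ≤ (({t : Lˣ | t ^ 2 = 1}) ×ˢ ({t : Lˣ | t ^ 2 = 1})).ncard := by
          refine Set.ncard_le_ncard_of_injOn (fun t => (t ⟨0, by decide⟩, t ⟨1, by decide⟩))
            (fun t ht => ⟨congrFun ht _, congrFun ht _⟩) (fun a _ b _ e => ?_) (Set.toFinite _)
          funext i
          have hi : i.val = 0 ∨ i.val = 1 := by
            have := i.isLt
            simp only [show G2.pk.rank = 2 from rfl] at this
            omega
          rcases hi with hi | hi
          · rw [show i = ⟨0, by decide⟩ from Fin.ext hi]; exact congrArg Prod.fst e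
          · rw [show i = ⟨1, by decide⟩ from Fin.ext hi]; exact congrArg Prod.snd e
      _ ≤ 4 := by
        rw [Set.ncard_prod]
        exact (Nat.mul_le_mul hc hc).trans (by norm_num)
  obtain ⟨k, hk⟩ : ∃ k, Fintype.card L = 4 * k + 1 := ⟨Fintype.card L / 4, by omega⟩
  refine le_seven_torus (tauG2 (L := L)) M _ coxeter_pow_six four_dvd_coxeter (φW.comp e.toMonoidHom)
    (hsur.comp e.surjective) (fun x => ?_) ?_ tauG2_inj hT2
    ((4 * k + 1) ^ 6 * (2 * k + 1) * (2 * k + 1) * ((4 * k + 1) ^ 4 + (4 * k + 1) ^ 2 + 1))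
    (by rw [card_torus, card_G2_split, hk]; ring) ?_ r H N h
  · show φW (e x) = 1 ↔ _
    rw [← MonoidHom.mem_ker, hker, Subgroup.mem_subgroupOf]
    show ((x : ↥(chevG2.group L)) : GL chevG2.Idx L) ∈ chevG2.diagonalSubgroup L ↔ _
    rw [G2.ok.mem_diagonal_iff]
    exact ⟨fun ⟨c, hc⟩ => ⟨c, Subtype.ext hc⟩, fun ⟨c, hc⟩ => ⟨c, congrArg Subtype.val hc⟩⟩
  · rintro _ ⟨c, rfl⟩
    show G2.ok.hHom c ∈ chevG2.monomialSubgroup L
    rw [G2.ok.monomial_eq]
    exact Subgroup.mem_sup_left (G2.ok.mem_diagonal_iff.2 ⟨c, rfl⟩)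
  · simp [Nat.odd_iff, Nat.mul_mod, Nat.add_mod, Nat.pow_mod]

end Cfsg.Agent.AltSection
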