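import Cfsg.Agent.Lib.AltSection.Embed
import Mathlib.GroupTheory.Sylow
import Mathlib.GroupTheory.Index
import Mathlib.Tactic.NormNum.Prime

/-!
Local criteria against alternating sections: a five-local one for degree seven and a two-local one for degree
eight.
-/

set_option autoImplicit false
set_option maxRecDepth 20000

namespace Cfsg.Agent.AltSection

open scoped Pointwise

section Burnside

variable {G : Type*} [Group G] [Finite G] {ℓ : ℕ} [Fact ℓ.Prime]

/-- With an abelian Sylow group `P` whose automisers have exponent dividing `e`, the `e`-th power of an element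
normalising an `ℓ`-subgroup centralises it. -/
theorem pow_commute_of_sylow (P : Sylow ℓ G)
    (hab : ∀ a ∈ (P : Subgroup G), ∀ b ∈ (P : Subgroup G), Commute a b) (e : ℕ)
    (hN : ∀ y : G, (∀ p ∈ (P : Subgroup G), y * p * y⁻¹ ∈ (P : Subgroup G)) →
      ∀ p ∈ (P : Subgroup G), Commute (y ^ e) p)
    {S : Subgroup G} (hS : IsPGroup ℓ S) {g : G} (hg : ∀ s ∈ S, g * s * g⁻¹ ∈ S) :
    ∀ s ∈ S, Commute (g ^ e) s := by
  obtain ⟨P', hP'⟩ := hS.exists_le_sylow
  obtain ⟨x, hx⟩ := MulAction.exists_smul_eq G P P'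
  have hP'eq : (P' : Subgroup G) = MulAut.conj x • (P : Subgroup G) := by
    rw [← hx, Sylow.coe_subgroup_smul]
  have hab' : ∀ a ∈ (P' : Subgroup G), ∀ b ∈ (P' : Subgroup G), Commute a b := by
    intro a ha b hb
    rw [hP'eq, Subgroup.mem_smul_pointwise_iff_exists] at ha hb
    obtain ⟨q, hq, rfl⟩ := ha
    obtain ⟨q', hq', rfl⟩ := hb
    exact (hab q hq q' hq').map (MulAut.conj x).toMonoidHom
  set C := Subgroup.centralizer (S : Set G)
  have hP'C : (P' : Subgroup G) ≤ C := fun a ha =>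
    Subgroup.mem_centralizer_iff.2 fun s hs => (hab' s (hP' hs) a ha).eq
  have hgS : ∀ s ∈ S, g⁻¹ * s * g ∈ S := by
    let f : S → S := fun s => ⟨g * s * g⁻¹, hg s s.2⟩
    have hf : Function.Injective f := fun a b e =>
      Subtype.ext (mul_left_cancel (mul_right_cancel (congrArg Subtype.val e)))
    intro s hs
    obtain ⟨s', e⟩ := Finite.injective_iff_surjective.1 hf ⟨s, hs⟩
    rw [show g⁻¹ * s * g = s'.1 by
      rw [← show g * s'.1 * g⁻¹ = s from congrArg Subtype.val e]; group]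
    exact s'.2
  have hgC : ((g • P' : Sylow ℓ G) : Subgroup G) ≤ C := by
    intro a ha
    rw [Sylow.coe_subgroup_smul, Subgroup.mem_smul_pointwise_iff_exists] at ha
    obtain ⟨b, hb, rfl⟩ := ha
    refine Subgroup.mem_centralizer_iff.2 fun s hs => ?_
    have h := Subgroup.mem_centralizer_iff.1 (hP'C hb) _ (hgS s hs)
    show s * (g * b * g⁻¹) = g * b * g⁻¹ * s
    calc s * (g * b * g⁻¹) = g * ((g⁻¹ * s * g) * b) * g⁻¹ := by group
      _ = g * (b * (g⁻¹ * s * g)) * g⁻¹ := by rw [h]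
      _ = _ := by group
  obtain ⟨c, hc⟩ := MulAction.exists_smul_eq ↥C ((g • P').subtype hgC) (P'.subtype hP'C)
  rw [Sylow.smul_subtype] at hc
  have hc := Sylow.subtype_injective hc
  set y := x⁻¹ * ((c : G) * g) * x
  have hy : ∀ p ∈ (P : Subgroup G), y * p * y⁻¹ ∈ (P : Subgroup G) := by
    intro p hp
    have e' : (((c : G) * g) • P' : Sylow ℓ G) = P' := by rw [mul_smul]; exact hc
    have h1 : x * p * x⁻¹ ∈ (P' : Subgroup G) := by
      rw [hP'eq]; exact Subgroup.smul_mem_pointwise_smul p (MulAut.conj x) _ hp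
    have h2 : (c : G) * g * (x * p * x⁻¹) * ((c : G) * g)⁻¹ ∈
        ((((c : G) * g) • P' : Sylow ℓ G) : Subgroup G) := by
      rw [Sylow.coe_subgroup_smul]
      exact Subgroup.smul_mem_pointwise_smul _ (MulAut.conj ((c : G) * g)) _ h1
    rw [e', hP'eq, Subgroup.mem_smul_pointwise_iff_exists] at h2
    obtain ⟨p', hp', e''⟩ := h2
    have : y * p * y⁻¹ = p' := by
      simp only [MulAut.smul_def, MulAut.conj_apply] at e''
      calc y * p * y⁻¹ = x⁻¹ * ((c : G) * g * (x * p * x⁻¹) * ((c : G) * g)⁻¹) * x := by simp only [y]; group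
        _ = p' := by rw [← e'']; group
    exact this ▸ hp'
  have hpow : ∀ (i : ℕ) (s), s ∈ S →
      ((c : G) * g) ^ i * s * (((c : G) * g) ^ i)⁻¹ = g ^ i * s * (g ^ i)⁻¹ ∧ g ^ i * s * (g ^ i)⁻¹ ∈ S := by
    intro i
    induction i with
    | zero => intro s hs; simp [hs]
    | succ i ih =>
      intro s hs
      obtain ⟨e1, e2⟩ := ih s hs
      have h2 := hg _ e2
      have h3 := Subgroup.mem_centralizer_iff.1 c.2 _ h2
      refine ⟨?_, by rw [pow_succ']; simpa [mul_assoc] using h2⟩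
      calc _ = (c : G) * (g * (((c : G) * g) ^ i * s * (((c : G) * g) ^ i)⁻¹) * g⁻¹) * (c : G)⁻¹ := by
            simp only [pow_succ', mul_inv_rev, mul_assoc]
        _ = g * (g ^ i * s * (g ^ i)⁻¹) * g⁻¹ := by rw [e1, ← h3, mul_inv_cancel_right]
        _ = _ := by simp only [pow_succ', mul_inv_rev, mul_assoc]
  intro s hs
  have hsP : s ∈ MulAut.conj x • (P : Subgroup G) := hP'eq ▸ hP' hs
  obtain ⟨p, hp, rfl⟩ := Subgroup.mem_smul_pointwise_iff_exists _ _ _ |>.1 hsP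
  have h := (hN y hy p hp).map (MulAut.conj x).toMonoidHom
  have e2 : MulAut.conj x (y ^ e) = ((c : G) * g) ^ e := by
    rw [map_pow]
    congr 1
    simp only [y, MulAut.conj_apply]
    group
  have h' : Commute (((c : G) * g) ^ e) (MulAut.conj x • p) := e2 ▸ h
  have := (hpow e _ hs).1
  rw [h'.eq, mul_inv_cancel_right] at this
  exact mul_inv_eq_iff_eq_mul.1 this.symm

end Burnside

/-- The square of a two-element normalising a five-subgroup centralises it. -/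
def FiveLocal (G : Type*) [Group G] : Prop :=
  ∀ S : Subgroup G, IsPGroup 5 S → ∀ (g : G) (k : ℕ), (∀ s ∈ S, g * s * g⁻¹ ∈ S) → g ^ 2 ^ k = 1 →
    ∀ s ∈ S, Commute (g ^ 2) s

theorem fiveLocal_of {G : Type*} [Group G] [Finite G] [Fact (Nat.Prime 5)] (P : Sylow 5 G)
    (hab : ∀ a ∈ (P : Subgroup G), ∀ b ∈ (P : Subgroup G), Commute a b)
    (hN : ∀ y : G, (∀ p ∈ (P : Subgroup G), y * p * y⁻¹ ∈ (P : Subgroup G)) →
      ∀ p ∈ (P : Subgroup G), Commute (y ^ 6) p) : FiveLocal G := by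
  intro S hS g k hg hk s hs
  have h6 := pow_commute_of_sylow P hab 6 hN hS hg s hs
  obtain ⟨b, -, hb⟩ := Nat.exists_mul_mod_eq_of_coprime 1 (Nat.Coprime.pow_right k (by norm_num : Nat.Coprime 3 2))
    (pow_ne_zero k (by norm_num))
  have e : g ^ 2 = (g ^ 6) ^ b := by
    calc g ^ 2 = (g ^ (3 * b)) ^ 2 := by
          rw [pow_eq_pow_mod (3 * b) hk, hb, ← pow_eq_pow_mod 1 hk, pow_one]
      _ = (g ^ 6) ^ b := by rw [← pow_mul, ← pow_mul]; ring_nf
  rw [e]
  exact h6.pow_left b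

/-- A finite group of this kind has no alternating section of degree seven. -/
theorem le_six {G : Type*} [Group G] [Finite G] (hG : FiveLocal G) {G' : Type*} [Group G'] [Finite G'] (f : G' →* G)
    (hf : Function.Injective f) (r : ℕ) (H : Subgroup G') (N : Subgroup ↥H) [N.Normal]
    (h : Nonempty (↥H ⧸ N ≃* ↥(alternatingGroup (Fin r)))) : r ≤ 6 := by
  classical
  haveI : Fact (Nat.Prime 5) := ⟨by norm_num⟩
  by_contra hr
  obtain ⟨e⟩ := h
  let π : ↥H →* ↥(alternatingGroup (Fin r)) := e.toMonoidHom.comp (QuotientGroup.mk' N)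
  have hπ : Function.Surjective π := e.surjective.comp (QuotientGroup.mk'_surjective N)
  obtain ⟨emb, hemb⟩ := exists_embed (n := 7) (r := r) (by omega)
  have key : ∃ u w : Equiv.Perm (Fin 7), Equiv.Perm.sign u = 1 ∧ Equiv.Perm.sign w = 1 ∧ u ^ 5 = 1 ∧ u ≠ 1 ∧
      w * u * w⁻¹ = u ^ 2 :=
    ⟨⟨![1, 2, 3, 4, 0, 5, 6], ![4, 0, 1, 2, 3, 5, 6], by decide, by decide⟩,
      ⟨![0, 2, 4, 1, 3, 6, 5], ![0, 3, 1, 4, 2, 6, 5], by decide, by decide⟩,
      by decide +kernel, by decide +kernel, by decide +kernel, by decide +kernel, by decide +kernel⟩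
  obtain ⟨u7, w7, su, sw, hu7, hu1, hconj⟩ := key
  set u := emb ⟨u7, Equiv.Perm.mem_alternatingGroup.2 su⟩
  set w := emb ⟨w7, Equiv.Perm.mem_alternatingGroup.2 sw⟩
  have hu : u ^ 5 = 1 := by
    rw [← map_pow, show (⟨u7, Equiv.Perm.mem_alternatingGroup.2 su⟩ : ↥(alternatingGroup (Fin 7))) ^ 5 = 1 from
      Subtype.ext hu7, map_one]
  have hune : u ≠ 1 := fun h => hu1 (congrArg Subtype.val ((injective_iff_map_eq_one emb).1 hemb _ h))
  have hwu : w * u * w⁻¹ = u ^ 2 := by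
    rw [← map_inv, ← map_mul, ← map_mul, ← map_pow]
    exact congrArg emb (Subtype.ext hconj)
  let U : Subgroup ↥H := (Subgroup.zpowers u).comap π
  let S : Sylow 5 ↥U := Classical.arbitrary _
  let S0 : Subgroup ↥H := (S : Subgroup ↥U).map U.subtype
  obtain ⟨s, hsS, hsu⟩ : ∃ s ∈ S0, π s = u := by
    let πU : ↥U →* ↥(Subgroup.zpowers u) := (π.comp U.subtype).codRestrict _ fun x => x.2
    have hπU : Function.Surjective πU := fun y => by
      obtain ⟨x, hx⟩ := hπ y.1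
      exact ⟨⟨x, show π x ∈ Subgroup.zpowers u from hx ▸ y.2⟩, Subtype.ext hx⟩
    have htop : ((S.mapSurjective hπU : Sylow 5 ↥(Subgroup.zpowers u)) : Subgroup ↥(Subgroup.zpowers u)) = ⊤ :=
      ((S.mapSurjective hπU).is_maximal' ((IsPGroup.of_card (n := 1)
        (by rw [Nat.card_zpowers, orderOf_eq_prime hu hune, pow_one]) :
          IsPGroup 5 ↥(Subgroup.zpowers u)).to_subgroup ⊤) le_top).symm
    have hm' : (⟨u, Subgroup.mem_zpowers u⟩ : ↥(Subgroup.zpowers u)) ∈ (S : Subgroup ↥U).map πU := by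
      rw [← Sylow.coe_mapSurjective hπU, htop]; exact Subgroup.mem_top _
    obtain ⟨x, hx, hxe⟩ := hm'
    exact ⟨x, ⟨x, hx, rfl⟩, congrArg Subtype.val hxe⟩
  have hS0p : IsPGroup 5 ↥S0 := S.2.map _
  have hS0U : S0 ≤ U := by rintro _ ⟨x, -, rfl⟩; exact x.2
  obtain ⟨h1, hh1⟩ := hπ w
  have hUn : ∀ x ∈ U, h1 * x * h1⁻¹ ∈ U := fun x hx => by
    have hx' : π x ∈ Subgroup.zpowers u := hx
    show π (h1 * x * h1⁻¹) ∈ Subgroup.zpowers u
    obtain ⟨i, hi⟩ := Subgroup.mem_zpowers_iff.1 hx'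
    rw [map_mul, map_mul, map_inv, hh1, ← hi]
    refine ⟨2 * i, ?_⟩
    show u ^ (2 * i) = w * u ^ i * w⁻¹
    rw [zpow_mul, zpow_ofNat, ← hwu, conj_zpow]
  let S' : Subgroup ↥U := (S0.map (MulAut.conj h1).toMonoidHom).subgroupOf U
  have hS'le : S0.map (MulAut.conj h1).toMonoidHom ≤ U := by
    rintro _ ⟨x, hx, rfl⟩; exact hUn x (hS0U hx)
  have hS'c : Nat.card S' = 5 ^ (Nat.card ↥U).factorization 5 := by
    rw [Nat.card_congr (Subgroup.subgroupOfEquivOfLe hS'le).toEquiv,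
      ← Nat.card_congr (S0.equivMapOfInjective _ (MulAut.conj h1).injective).toEquiv,
      ← Nat.card_congr ((S : Subgroup ↥U).equivMapOfInjective _ U.subtype_injective).toEquiv, S.card_eq_multiplicity]
  obtain ⟨y, hy⟩ := MulAction.exists_smul_eq ↥U (Sylow.ofCard S' hS'c) S
  set h0 : ↥H := (y : ↥H) * h1
  have hn0 : ∀ x ∈ S0, h0 * x * h0⁻¹ ∈ S0 := by
    intro x hx
    have hm1 : (⟨h1 * x * h1⁻¹, hS'le ⟨x, hx, rfl⟩⟩ : ↥U) ∈ S' := ⟨x, hx, rfl⟩
    have hm2 : y * ⟨h1 * x * h1⁻¹, hS'le ⟨x, hx, rfl⟩⟩ * y⁻¹ ∈ (S : Subgroup ↥U) := by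
      rw [← hy, Sylow.coe_subgroup_smul]
      exact Subgroup.smul_mem_pointwise_smul _ (MulAut.conj y) _ hm1
    refine ⟨_, hm2, ?_⟩
    simp [h0, mul_assoc]
  obtain ⟨a, n, hn, hord⟩ := Nat.exists_eq_pow_mul_and_not_dvd (orderOf_pos h0).ne' 2 (by norm_num)
  have hhn : ∀ (k : ℕ) x, x ∈ S0 → h0 ^ k * x * (h0 ^ k)⁻¹ ∈ S0 := fun k => by
    induction k with
    | zero => intro x hx; simpa using hx
    | succ k ih =>
      intro x hx
      have := hn0 _ (ih x hx)
      rwa [pow_succ', show h0 * h0 ^ k * x * (h0 * h0 ^ k)⁻¹ = h0 * (h0 ^ k * x * (h0 ^ k)⁻¹) * h0⁻¹ by group]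
  have hg2 : f ((h0 ^ n : ↥H) : G') ^ 2 ^ a = 1 := by
    rw [← map_pow, ← Subgroup.coe_pow, ← pow_mul, mul_comm, ← hord, pow_orderOf_eq_one, Subgroup.coe_one, map_one]
  have hlocal := hG ((S0.map H.subtype).map f) ((hS0p.map _).map _) (f ((h0 ^ n : ↥H) : G')) a
    (by rintro _ ⟨_, ⟨x, hx, rfl⟩, rfl⟩; exact ⟨_, ⟨_, hhn n x hx, rfl⟩, by simp⟩) hg2 _ ⟨_, ⟨s, hsS, rfl⟩, rfl⟩
  have hcomm : Commute (π h0 ^ (n * 2)) u := by
    rw [← map_pow, ← hsu]
    refine (show Commute (h0 ^ (n * 2)) s from Subtype.ext (hf ?_)).map π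
    rw [Subgroup.coe_mul, Subgroup.coe_mul, map_mul, map_mul, pow_mul, Subgroup.coe_pow, map_pow]
    exact hlocal.eq
  obtain ⟨i, hi⟩ := Subgroup.mem_zpowers_iff.1 (y.2 : π (y : ↥H) ∈ Subgroup.zpowers u)
  have h0u : π h0 * u * (π h0)⁻¹ = u ^ 2 := by
    rw [map_mul, hh1, ← hi]
    calc u ^ i * w * u * (u ^ i * w)⁻¹ = u ^ i * (w * u * w⁻¹) * (u ^ i)⁻¹ := by group
      _ = u ^ 2 := by rw [hwu, ← zpow_natCast, ← zpow_add, ← zpow_neg, ← zpow_add]; congr 1; ring
  have hiter : ∀ k : ℕ, π h0 ^ k * u * (π h0 ^ k)⁻¹ = u ^ 2 ^ k := fun k => by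
    induction k with
    | zero => simp
    | succ k ih =>
      rw [pow_succ', show π h0 * π h0 ^ k * u * (π h0 * π h0 ^ k)⁻¹ =
        π h0 * (π h0 ^ k * u * (π h0 ^ k)⁻¹) * (π h0)⁻¹ by group, ih, ← conj_pow, h0u, ← pow_mul, pow_succ']
  have h2n : u ^ 2 ^ (n * 2) = u ^ 1 := by rw [← hiter, hcomm.eq, mul_inv_cancel_right, pow_one]
  rw [pow_eq_pow_iff_modEq, orderOf_eq_prime hu hune] at h2n
  have hmod : 2 ^ (n * 2) % 5 = 1 := h2n
  obtain ⟨j, rfl⟩ : ∃ j, n = 2 * j + 1 := ⟨n / 2, by omega⟩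
  rw [show (2 * j + 1) * 2 = 4 * j + 2 by ring, pow_add, pow_mul, Nat.mul_mod, Nat.pow_mod] at hmod
  norm_num at hmod

/-- The kernel of an endomorphism is as large as the index of its range. -/
theorem card_ker_eq_index {X : Type*} [Group X] [Finite X] (g : X →* X) : Nat.card g.ker = g.range.index := by
  have h1 := g.ker.index_mul_card
  have h2 := g.range.index_mul_card
  rw [Subgroup.index_ker] at h1
  exact Nat.eq_of_mul_eq_mul_left (Nat.card_pos (α := g.range)) (by rw [h1, mul_comm, h2])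

/-- The elements squaring to one of a homomorphic image are no more numerous. -/
theorem card_two_torsion_map {G Q : Type*} [Group G] [Group Q] [Finite G] (π : G →* Q) (C : Subgroup G)
    (hC : ∀ a ∈ C, ∀ b ∈ C, Commute a b) :
    {b ∈ C.map π | b ^ 2 = 1}.ncard ≤ {a | a ∈ C ∧ a ^ 2 = 1}.ncard := by
  classical
  let sq : ↥C →* ↥C := MonoidHom.mk' (fun a => a ^ 2) fun a b =>
    (Commute.mul_pow (show Commute a b from Subtype.ext (hC a a.2 b b.2)) 2)
  let πC : ↥C →* ↥(C.map π) := π.subgroupMap C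
  let sq' : ↥(C.map π) →* ↥(C.map π) := MonoidHom.mk' (fun a => a ^ 2) fun a b => by
    obtain ⟨a', ha', ea⟩ := a.2
    obtain ⟨b', hb', eb⟩ := b.2
    refine Commute.mul_pow (show Commute a b from Subtype.ext ?_) 2
    show (a : Q) * b = b * a
    rw [← ea, ← eb]
    exact ((hC a' ha' b' hb').map π).eq
  haveI : Finite ↥(C.map π) := Finite.of_surjective πC (π.subgroupMap_surjective C)
  have hr : sq'.range = sq.range.map πC := by
    ext b
    constructor
    · rintro ⟨b', rfl⟩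
      obtain ⟨a, rfl⟩ := π.subgroupMap_surjective C b'
      exact ⟨a ^ 2, ⟨a, rfl⟩, map_pow _ _ _⟩
    · rintro ⟨_, ⟨a, rfl⟩, rfl⟩
      exact ⟨πC a, (map_pow _ _ _).symm⟩
  have h1 : sq'.range.index ≤ sq.range.index := by
    rw [hr]
    exact Nat.le_of_dvd (Nat.pos_of_ne_zero Subgroup.index_ne_zero_of_finite)
      (Subgroup.index_map_dvd _ (π.subgroupMap_surjective C))
  rw [← card_ker_eq_index sq, ← card_ker_eq_index sq'] at h1
  have e1 : {b ∈ C.map π | b ^ 2 = 1}.ncard = Nat.card sq'.ker := by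
    rw [← Nat.card_coe_set_eq]
    exact Nat.card_congr ⟨fun b => ⟨⟨b.1, b.2.1⟩, Subtype.ext b.2.2⟩, fun b => ⟨b.1.1, b.1.2, congrArg Subtype.val b.2⟩,
      fun b => rfl, fun b => rfl⟩
  have e2 : {a | a ∈ C ∧ a ^ 2 = 1}.ncard = Nat.card sq.ker := by
    rw [← Nat.card_coe_set_eq]
    exact Nat.card_congr ⟨fun b => ⟨⟨b.1, b.2.1⟩, Subtype.ext b.2.2⟩, fun b => ⟨b.1.1, b.1.2, congrArg Subtype.val b.2⟩,
      fun b => rfl, fun b => rfl⟩
  rwa [e1, e2]

/-- Code of a permutation of eight points. -/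
def cd8 (σ : Equiv.Perm (Fin 8)) : ℕ :=
  (σ 0).val + 8 * ((σ 1).val + 8 * ((σ 2).val + 8 * ((σ 3).val + 8 * ((σ 4).val + 8 * ((σ 5).val + 8 *
    ((σ 6).val + 8 * (σ 7).val))))))

/-- A digit. -/
def dg (n i : ℕ) : ℕ := n / 8 ^ i % 8

/-- The code of a product. -/
def mul8 (a b : ℕ) : ℕ :=
  dg a (dg b 0) + 8 * (dg a (dg b 1) + 8 * (dg a (dg b 2) + 8 * (dg a (dg b 3) + 8 * (dg a (dg b 4) + 8 *
    (dg a (dg b 5) + 8 * (dg a (dg b 6) + 8 * dg a (dg b 7)))))))

/-- A Sylow two-subgroup of the alternating group of degree eight. -/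
def syl8 : List ℕ :=
  [16434824, 14571144, 11789960, 9926280, 14599368, 16405704, 9954504, 11760840, 14599809, 16406145, 9954945,
    11761281, 16434369, 14570689, 11789505, 9925825, 16433690, 14570010, 11788826, 9925146, 14598234, 16404570,
    9953370, 11759706, 14598675, 16405011, 9953811, 11760147, 16433235, 14569555, 11788371, 9924691, 6852524,
    4988844, 2207660, 343980, 5017068, 6823404, 372204, 2178540, 5017509, 6823845, 372645, 2178981, 6852069,
    4988389, 2207205, 343525, 6851390, 4987710, 2206526, 342846, 5015934, 6822270, 371070, 2177406, 5016375,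
    6822711, 371511, 2177847, 6850935, 4987255, 2206071, 342391]

/-- Five of them with distinct squares. -/
def sel8 : List ℕ := [16434824, 9954504, 14598234, 9953370, 2207660]

theorem syl8_closed : ((syl8.all fun a => syl8.all fun b => syl8.contains (mul8 a b)) &&
    (syl8.all fun a => Nat.beq (mul8 (mul8 a a) (mul8 a a)) 16434824)) = true := by decide +kernel

theorem sel8_ck : (sel8.all fun a => syl8.contains a && Nat.beq (mul8 (mul8 a a) (mul8 a a)) 16434824) = true ∧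
    (sel8.map fun a => mul8 a a).Nodup ∧ sel8.length = 5 := by decide +kernel

theorem sel8_even : ∀ a ∈ sel8, ∃ σ : Equiv.Perm (Fin 8), cd8 σ = a ∧ Equiv.Perm.sign σ = 1 := by
  simp only [sel8, List.mem_cons, List.not_mem_nil, or_false, forall_eq_or_imp, forall_eq]
  exact ⟨⟨1, by decide +kernel, by decide +kernel⟩,
    ⟨⟨![0, 1, 3, 2, 6, 7, 5, 4], ![0, 1, 3, 2, 7, 6, 4, 5], by decide, by decide⟩, by decide +kernel, by decide +kernel⟩,
    ⟨⟨![2, 3, 1, 0, 4, 5, 7, 6], ![3, 2, 0, 1, 4, 5, 7, 6], by decide, by decide⟩, by decide +kernel, by decide +kernel⟩,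
    ⟨⟨![2, 3, 1, 0, 6, 7, 5, 4], ![3, 2, 0, 1, 7, 6, 4, 5], by decide, by decide⟩, by decide +kernel, by decide +kernel⟩,
    ⟨⟨![4, 5, 6, 7, 2, 3, 0, 1], ![6, 7, 4, 5, 0, 1, 2, 3], by decide, by decide⟩, by decide +kernel, by decide +kernel⟩⟩

/-- A group with a large subgroup whose two-elements square into a small abelian group has no alternating section
of degree eight. -/
theorem le_seven {G : Type*} [Group G] [Finite G] (M A : Subgroup G) (hAc : ∀ a ∈ A, ∀ b ∈ A, Commute a b)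
    (hodd : Odd M.index) (hA2 : {a | a ∈ A ∧ a ^ 2 = 1}.ncard ≤ 4)
    (hM : ∀ x ∈ M, ∀ k, x ^ 2 ^ k = 1 → x ^ 2 ∈ A)
    (r : ℕ) (H : Subgroup G) (N : Subgroup ↥H) [N.Normal]
    (h : Nonempty (↥H ⧸ N ≃* ↥(alternatingGroup (Fin r)))) : r ≤ 7 := by
  classical
  haveI : Fact (Nat.Prime 2) := ⟨Nat.prime_two⟩
  by_contra hr
  obtain ⟨e⟩ := h
  let π : ↥H →* ↥(alternatingGroup (Fin r)) := e.toMonoidHom.comp (QuotientGroup.mk' N)
  have hπ : Function.Surjective π := e.surjective.comp (QuotientGroup.mk'_surjective N)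
  obtain ⟨emb, hemb⟩ := exists_embed (n := 8) (r := r) (by omega)
  have hdg : ∀ (σ : Equiv.Perm (Fin 8)) (j : Fin 8), dg (cd8 σ) j.val = (σ j).val := by
    intro σ j
    have := (σ 0).isLt; have := (σ 1).isLt; have := (σ 2).isLt; have := (σ 3).isLt
    have := (σ 4).isLt; have := (σ 5).isLt; have := (σ 6).isLt; have := (σ 7).isLt
    fin_cases j <;> simp [dg, cd8] <;> omega
  have hcd : Function.Injective cd8 := fun σ τ e => Equiv.ext fun j => Fin.ext (by rw [← hdg, ← hdg, e])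
  have hmul : ∀ σ τ, cd8 (σ * τ) = mul8 (cd8 σ) (cd8 τ) := by
    intro σ τ
    have := fun j : Fin 8 => hdg τ j
    simp only [Fin.forall_fin_succ] at this
    simp at this
    obtain ⟨t0, t1, t2, t3, t4, t5, t6, t7⟩ := this
    rw [mul8, t0, t1, t2, t3, t4, t5, t6, t7, hdg, hdg, hdg, hdg, hdg, hdg, hdg, hdg]
    rfl
  have hclo := syl8_closed
  simp only [Bool.and_eq_true, List.all_eq_true, List.contains_iff_mem] at hclo
  have h1cd : cd8 1 = 16434824 := by decide +kernel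
  let P8 : Subgroup ↥(alternatingGroup (Fin 8)) :=
    { carrier := {x | cd8 x.1 ∈ syl8}
      one_mem' := by
        show cd8 1 ∈ syl8
        rw [h1cd]; decide +kernel
      mul_mem' := fun {a b} ha hb => by
        show cd8 (a.1 * b.1) ∈ syl8
        rw [hmul]; exact hclo.1 _ ha _ hb
      inv_mem' := fun {a} ha => by
        have h4 : a * (a * a * a) = 1 := Subtype.ext (hcd (by
          show cd8 (a.1 * (a.1 * a.1 * a.1)) = cd8 1
          rw [show a.1 * (a.1 * a.1 * a.1) = a.1 * a.1 * (a.1 * a.1) by group, hmul, hmul, h1cd]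
          exact Nat.eq_of_beq_eq_true (hclo.2 _ ha)))
        show cd8 (a⁻¹).1 ∈ syl8
        rw [inv_eq_of_mul_eq_one_right h4]
        show cd8 (a.1 * a.1 * a.1) ∈ syl8
        rw [hmul, hmul]
        exact hclo.1 _ (hclo.1 _ ha _ ha) _ ha }
  have hP8 : IsPGroup 2 ↥P8 := fun x => ⟨2, Subtype.ext (Subtype.ext (hcd (by
    show cd8 (x.1.1 ^ 2 ^ 2) = cd8 1
    rw [show x.1.1 ^ 2 ^ 2 = x.1.1 * x.1.1 * (x.1.1 * x.1.1) by simp [pow_succ, mul_assoc], hmul, hmul, h1cd]
    exact Nat.eq_of_beq_eq_true (hclo.2 _ x.2))))⟩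
  -- lift it
  let Pr : Subgroup ↥(alternatingGroup (Fin r)) := P8.map emb
  have hPr : IsPGroup 2 ↥Pr := hP8.map _
  let H1 : Subgroup ↥H := Pr.comap π
  let S : Sylow 2 ↥H1 := Classical.arbitrary _
  let π1 : ↥H1 →* ↥Pr := (π.comp H1.subtype).codRestrict _ fun x => x.2
  have hπ1 : Function.Surjective π1 := fun y => by
    obtain ⟨x, hx⟩ := hπ y.1
    exact ⟨⟨x, show π x ∈ Pr from hx ▸ y.2⟩, Subtype.ext hx⟩
  have htop : (S : Subgroup ↥H1).map π1 = ⊤ := by
    rw [← Sylow.coe_mapSurjective hπ1]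
    exact ((S.mapSurjective hπ1).is_maximal' (hPr.to_subgroup ⊤) le_top).symm
  let R : Subgroup ↥H := (S : Subgroup ↥H1).map H1.subtype
  have hR : IsPGroup 2 ↥(R.map H.subtype) := (S.2.map _).map _
  obtain ⟨P, hP⟩ := hR.exists_le_sylow
  -- a Sylow group inside M
  obtain ⟨x, hx⟩ : ∃ x : G, ∀ a ∈ (P : Subgroup G), x * a * x⁻¹ ∈ M := by
    let Q : Sylow 2 ↥M := Classical.arbitrary _
    have hQc : Nat.card ((Q : Subgroup ↥M).map M.subtype) = 2 ^ (Nat.card G).factorization 2 := by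
      rw [← Nat.card_congr ((Q : Subgroup ↥M).equivMapOfInjective _ M.subtype_injective).toEquiv,
        Q.card_eq_multiplicity, ← M.index_mul_card, Nat.factorization_mul Subgroup.index_ne_zero_of_finite
          (Nat.card_pos (α := ↥M)).ne', Finsupp.add_apply, Nat.factorization_eq_zero_of_not_dvd (n := M.index) (fun h => by
          obtain ⟨t, ht⟩ := hodd; omega), zero_add]
    obtain ⟨x, hx⟩ := MulAction.exists_smul_eq G P (Sylow.ofCard _ hQc)
    refine ⟨x, fun a ha => ?_⟩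
    have hm : x * a * x⁻¹ ∈ ((x • P : Sylow 2 G) : Subgroup G) := by
      rw [Sylow.coe_subgroup_smul]
      exact Subgroup.smul_mem_pointwise_smul a (MulAut.conj x) _ ha
    rw [hx] at hm
    obtain ⟨b, -, hb⟩ := hm
    exact hb ▸ b.2
  -- the small abelian group
  let C : Subgroup ↥H := R ⊓ A.comap (((MulAut.conj x).toMonoidHom).comp H.subtype)
  have hCc : ∀ a ∈ C, ∀ b ∈ C, Commute a b := fun a ha b hb => by
    have h : Commute (MulAut.conj x (a : G)) (MulAut.conj x (b : G)) := hAc _ ha.2 _ hb.2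
    refine Subtype.ext ((MulAut.conj x).injective ?_)
    rw [Subgroup.coe_mul, Subgroup.coe_mul, map_mul, map_mul]
    exact h.eq
  have hC4 : {a | a ∈ C ∧ a ^ 2 = 1}.ncard ≤ 4 := by
    refine le_trans (Set.ncard_le_ncard_of_injOn (t := {a | a ∈ A ∧ a ^ 2 = 1}) (fun a : ↥H => MulAut.conj x (a : G)) (fun a ha => ⟨ha.1.2, ?_⟩)
      (fun a _ b _ e => Subtype.ext ((MulAut.conj x).injective e))) hA2
    rw [← map_pow, ← Subgroup.coe_pow, ha.2, Subgroup.coe_one, map_one]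
  have hbound := (card_two_torsion_map π C hCc).trans hC4
  -- five involutory squares
  have hsq : ∀ a ∈ Pr, a ^ 2 ∈ C.map π := by
    intro a ha
    have hmem : (⟨a, ha⟩ : ↥Pr) ∈ (S : Subgroup ↥H1).map π1 := htop ▸ Subgroup.mem_top _
    obtain ⟨s, hs, hse⟩ := hmem
    have hsR : (s : ↥H) ∈ R := ⟨s, hs, rfl⟩
    refine ⟨(s : ↥H) ^ 2, ⟨pow_mem hsR 2, ?_⟩, ?_⟩
    · obtain ⟨k, hk⟩ := hR ⟨((s : ↥H) : G), ⟨_, hsR, rfl⟩⟩
      have hk' : ((s : ↥H) : G) ^ 2 ^ k = 1 := congrArg Subtype.val hk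
      show MulAut.conj x (((s : ↥H) ^ 2 : ↥H) : G) ∈ A
      rw [Subgroup.coe_pow, map_pow]
      exact hM _ (hx _ (hP ⟨_, hsR, rfl⟩)) k (by rw [← map_pow, hk', map_one])
    · rw [map_pow]
      exact congrArg (· ^ 2) (congrArg Subtype.val hse)
  obtain ⟨hsel, hnd, hlen⟩ := sel8_ck
  simp only [List.all_eq_true, Bool.and_eq_true, List.contains_iff_mem] at hsel
  have hex : ∀ a ∈ sel8, ∃ σ : ↥P8, cd8 σ.1.1 = a := by
    intro a ha
    obtain ⟨σ, h1, h2⟩ := sel8_even a ha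
    exact ⟨⟨⟨σ, Equiv.Perm.mem_alternatingGroup.2 h2⟩, show cd8 σ ∈ syl8 from h1.symm ▸ (hsel a ha).1⟩, h1⟩
  choose σ hσ using fun a : {a // a ∈ sel8} => hex a.1 a.2
  have hfive : 5 ≤ {b ∈ C.map π | b ^ 2 = 1}.ncard := by
    have hinj : Function.Injective fun a : {a // a ∈ sel8} => emb (σ a).1 ^ 2 := by
      intro a b e
      simp only [← map_pow] at e
      have e' := congrArg (fun z : ↥(alternatingGroup (Fin 8)) => cd8 z.1) (hemb e)
      simp only [Subgroup.coe_pow, Subgroup.coe_mul, pow_two, hmul, hσ] at e'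
      exact Subtype.ext (List.inj_on_of_nodup_map hnd a.2 b.2 e')
    have hsub : Set.range (fun a : {a // a ∈ sel8} => emb (σ a).1 ^ 2) ⊆ {b ∈ C.map π | b ^ 2 = 1} := by
      rintro _ ⟨a, rfl⟩
      refine ⟨hsq _ ⟨_, (σ a).2, rfl⟩, ?_⟩
      show (emb (σ a).1 ^ 2) ^ 2 = 1
      rw [← map_pow, ← map_pow, show (((σ a).1) ^ 2) ^ 2 = 1 from Subtype.ext (hcd (by
        show cd8 (((σ a).1.1 ^ 2) ^ 2) = cd8 1
        rw [pow_two, pow_two, hmul, hmul, hσ, h1cd]
        exact Nat.eq_of_beq_eq_true (hsel a.1 a.2).2)), map_one]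
    have := Set.ncard_le_ncard hsub (Set.toFinite _)
    rw [Set.ncard_range_of_injective hinj, Nat.card_eq_fintype_card] at this
    have hc : Fintype.card {a // a ∈ sel8} = 5 := by decide +kernel
    omega
  omega

end Cfsg.Agent.AltSection
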