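import Cfsg.Agent.Lib.AltSection.Local
import Mathlib.GroupTheory.Coxeter.Basic
import Mathlib.GroupTheory.SpecificGroups.Dihedral

/-! The hypotheses of the local criteria from a split torus with dihedral Weyl group. -/

set_option autoImplicit false

namespace Cfsg.Agent.AltSection

/-- The elements of the Weyl group of type `G₂` have order dividing six. -/
theorem coxeter_pow_six (x : CoxeterMatrix.G₂.Group) : x ^ 6 = 1 := by
  let cs := CoxeterMatrix.G₂.toCoxeterSystem
  set a := cs.simple 0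
  set b := cs.simple 1
  have ha : a * a = 1 := cs.simple_mul_simple_self 0
  have hab : (a * b) ^ 6 = 1 := cs.simple_mul_simple_pow 0 1
  have hinv : a * (a * b) * a = (a * b)⁻¹ := by
    rw [mul_inv_rev, inv_eq_of_mul_eq_one_right ha, inv_eq_of_mul_eq_one_right (cs.simple_mul_simple_self 1),
      ← mul_assoc, ha, one_mul]
  have hrot : ∀ k : ℤ, a * (a * b) ^ k * a = (a * b) ^ (-k) := fun k => by
    rw [zpow_neg, ← inv_zpow, ← hinv]
    conv_lhs => arg 2; rw [← inv_eq_of_mul_eq_one_right ha]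
    conv_rhs => arg 1; arg 2; rw [← inv_eq_of_mul_eq_one_right ha]
    exact conj_zpow.symm
  have key : ∃ k : ℤ, x = (a * b) ^ k ∨ x = (a * b) ^ k * a := by
    refine cs.simple_induction_left (p := fun w => ∃ k : ℤ, w = (a * b) ^ k ∨ w = (a * b) ^ k * a) x
      ⟨0, Or.inl (by simp)⟩ ?_
    rintro w i ⟨k, hk⟩
    have ha' : ∀ k : ℤ, a * (a * b) ^ k = (a * b) ^ (-k) * a := fun k => by
      rw [← hrot k, mul_assoc _ a a, ha, mul_one]
    fin_cases i
    · rcases hk with rfl | rfl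
      · exact ⟨-k, Or.inr (ha' k)⟩
      · exact ⟨-k, Or.inl (by show a * ((a * b) ^ k * a) = _; rw [← mul_assoc, hrot])⟩
    · have hb : b = a * (a * b) := by rw [← mul_assoc, ha, one_mul]
      rcases hk with rfl | rfl
      · exact ⟨-(1 + k), Or.inr (by
          show b * (a * b) ^ k = _
          rw [hb, mul_assoc, ← hb]; rw [← zpow_one_add, ha'])⟩
      · exact ⟨-(1 + k), Or.inl (by
          show b * ((a * b) ^ k * a) = _
          rw [hb, ← mul_assoc, mul_assoc a, ← hb, ← zpow_one_add, hrot])⟩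
  obtain ⟨k, rfl | rfl⟩ := key
  · rw [← zpow_natCast, ← zpow_mul, mul_comm, zpow_mul, zpow_natCast, hab, one_zpow]
  · have h2 : ((a * b) ^ k * a) ^ 2 = 1 := by
      rw [pow_two, mul_assoc, ← mul_assoc a, hrot, ← zpow_add, add_neg_cancel, zpow_zero]
    rw [show 6 = 2 * 3 from rfl, pow_mul, h2, one_pow]

/-- Four divides the order of the Weyl group of type `G₂`. -/
theorem four_dvd_coxeter : 4 ∣ Nat.card CoxeterMatrix.G₂.Group := by
  let cs := CoxeterMatrix.G₂.toCoxeterSystem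
  let f : Fin 2 → DihedralGroup 6 := ![DihedralGroup.sr 0, DihedralGroup.sr 1]
  have hf : CoxeterMatrix.G₂.IsLiftable f := fun i j => by revert i j; decide +kernel
  let φ := cs.lift ⟨f, hf⟩
  have hs : Function.Surjective φ := by
    intro x
    have h0 : φ (cs.simple 0) = DihedralGroup.sr 0 := cs.lift_apply_simple hf 0
    have h1 : φ (cs.simple 1) = DihedralGroup.sr 1 := cs.lift_apply_simple hf 1
    have hr : ∀ i : ZMod 6, φ ((cs.simple 0 * cs.simple 1) ^ i.val) = DihedralGroup.r i := fun i => by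
      rw [map_pow, map_mul, h0, h1, DihedralGroup.sr_mul_sr, sub_zero, DihedralGroup.r_one_pow, ZMod.natCast_zmod_val]
    cases x with
    | r i => exact ⟨_, hr i⟩
    | sr i => exact ⟨cs.simple 0 * (cs.simple 0 * cs.simple 1) ^ i.val, by
        rw [map_mul, hr, h0, DihedralGroup.sr_mul_r, zero_add]⟩
  have := Subgroup.card_dvd_of_surjective φ hs
  rw [DihedralGroup.nat_card] at this
  exact (by norm_num : 4 ∣ 2 * 6).trans this

/-- A torus whose cofactor is prime to five gives a five-local group. -/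
theorem fiveLocal_torus {G : Type*} [Group G] [Finite G] {T : Type*} [CommGroup T] [Finite T] (τ : T →* G)
    (hτ : Function.Injective τ) (m : ℕ) (hcard : Nat.card G = Nat.card T * m) (hm : ¬ 5 ∣ m)
    (hN : ∀ y : G, (∀ t : T, t ^ 5 = 1 → ∃ t' : T, y * τ t * y⁻¹ = τ t' ∧ t' ^ 5 = 1) → ∃ t : T, y ^ 6 = τ t) :
    FiveLocal G := by
  classical
  haveI : Fact (Nat.Prime 5) := ⟨by norm_num⟩
  let Q : Sylow 5 T := Classical.arbitrary _
  have hPc : Nat.card ((Q : Subgroup T).map τ) = 5 ^ (Nat.card G).factorization 5 := by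
    rw [← Nat.card_congr ((Q : Subgroup T).equivMapOfInjective τ hτ).toEquiv, Q.card_eq_multiplicity, hcard,
      Nat.factorization_mul (Nat.card_pos (α := T)).ne' (fun h => hm (by rw [h]; exact dvd_zero 5)), Finsupp.add_apply,
      Nat.factorization_eq_zero_of_not_dvd hm, add_zero]
  have hQ : ∀ t : T, t ^ 5 = 1 → t ∈ (Q : Subgroup T) := by
    intro t ht
    obtain ⟨Q', hQ'⟩ := (show IsPGroup 5 (Subgroup.zpowers t) from fun y => ⟨1, by
      obtain ⟨i, hi⟩ := y.2
      refine Subtype.ext ?_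
      rw [pow_one, Subgroup.coe_pow, ← hi, ← zpow_natCast, ← zpow_mul, mul_comm, zpow_mul, zpow_natCast, ht, one_zpow,
        Subgroup.coe_one]⟩).exists_le_sylow
    obtain ⟨y, rfl⟩ := MulAction.exists_smul_eq T Q Q'
    have := hQ' (Subgroup.mem_zpowers t)
    rw [Sylow.coe_subgroup_smul, Subgroup.mem_pointwise_smul_iff_inv_smul_mem] at this
    simpa using this
  refine fiveLocal_of (Sylow.ofCard _ hPc) ?_ ?_
  · rintro _ ⟨a, -, rfl⟩ _ ⟨b, -, rfl⟩
    exact (Commute.all a b).map τ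
  · intro y hy
    obtain ⟨t, ht⟩ := hN y fun t ht => by
      obtain ⟨t', -, e⟩ := hy _ ⟨t, hQ t ht, rfl⟩
      refine ⟨t', e.symm, hτ ?_⟩
      rw [map_pow, map_one, e, conj_pow, ← map_pow, ht, map_one, mul_one, mul_inv_cancel]
    rintro _ ⟨q, -, rfl⟩
    rw [ht]
    exact (Commute.all t q).map τ

/-- A torus with odd index monomial group of exponent six gives the two-local criterion. -/
theorem le_seven_torus {G : Type*} [Group G] [Finite G] {T : Type*} [CommGroup T] [Finite T] (τ : T →* G)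
    (M : Subgroup G) (W : Type*) [Group W] (hW : ∀ w : W, w ^ 6 = 1) (hW4 : 4 ∣ Nat.card W) (f : ↥M →* W)
    (hf : Function.Surjective f) (hker : ∀ x : ↥M, f x = 1 ↔ (x : G) ∈ τ.range) (hτM : τ.range ≤ M)
    (hτ : Function.Injective τ) (hT2 : {t : T | t ^ 2 = 1}.ncard ≤ 4) (m : ℕ)
    (hcard : Nat.card G = Nat.card T * (4 * m)) (hm : Odd m)
    (r : ℕ) (H : Subgroup G) (N : Subgroup ↥H) [N.Normal]
    (h : Nonempty (↥H ⧸ N ≃* ↥(alternatingGroup (Fin r)))) : r ≤ 7 := by
  classical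
  refine le_seven M τ.range ?_ ?_ ?_ ?_ r H N h
  · rintro _ ⟨a, rfl⟩ _ ⟨b, rfl⟩
    exact (Commute.all a b).map τ
  · have hM : Nat.card ↥M = Nat.card W * Nat.card T := by
      rw [← f.ker.index_mul_card, Subgroup.index_ker, MonoidHom.range_eq_top.2 hf, Subgroup.card_top,
        Nat.card_congr (MonoidHom.ofInjective hτ).toEquiv]
      congr 1
      refine Nat.card_congr ⟨fun x => ⟨x.1.1, (hker _).1 x.2⟩, fun x => ⟨⟨x.1, hτM x.2⟩, (hker _).2 x.2⟩,
        fun x => rfl, fun x => rfl⟩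
    have := M.index_mul_card
    rw [hM, hcard] at this
    obtain ⟨w, hw⟩ := hW4
    rw [hw] at this
    have e : M.index * w = m := Nat.eq_of_mul_eq_mul_left (Nat.mul_pos Nat.card_pos (by norm_num) : 0 < Nat.card T * 4) (by linarith)
    exact Nat.Odd.of_mul_left (e ▸ hm)
  · refine le_trans (le_of_eq ?_) hT2
    rw [← Set.ncard_image_of_injective {t : T | t ^ 2 = 1} hτ]
    congr 1
    ext a
    constructor
    · rintro ⟨⟨t, rfl⟩, ht⟩
      exact ⟨t, hτ (by rw [map_pow, ht, map_one]), rfl⟩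
    · rintro ⟨t, ht, rfl⟩
      exact ⟨⟨t, rfl⟩, by rw [← map_pow, show t ^ 2 = 1 from ht, map_one]⟩
  · intro x hx k hk
    refine (hker (⟨x, hx⟩ ^ 2)).1 ?_
    rw [map_pow]
    have h1 := hW (f ⟨x, hx⟩)
    have h2 : f ⟨x, hx⟩ ^ 2 ^ k = 1 := by
      rw [← map_pow, show (⟨x, hx⟩ : ↥M) ^ 2 ^ k = 1 from Subtype.ext hk, map_one]
    refine orderOf_dvd_iff_pow_eq_one.1 ?_
    have hg : orderOf (f ⟨x, hx⟩) ∣ Nat.gcd 6 (2 ^ k) :=
      Nat.dvd_gcd (orderOf_dvd_of_pow_eq_one h1) (orderOf_dvd_of_pow_eq_one h2)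
    refine hg.trans ?_
    rw [show (6 : ℕ) = 2 * 3 from rfl,
      Nat.Coprime.gcd_mul_right_cancel 2 (Nat.Coprime.pow_right k (by norm_num : Nat.Coprime 3 2))]
    exact Nat.gcd_dvd_left 2 _

end Cfsg.Agent.AltSection
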